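import Cfsg.Agent.H77.HN.Rels

/-!
The relation `[x, q] = 1` from the relation of z: if z commutes with x and w, and the elements
`q`, `v q v⁻¹`, `v x q x v⁻¹` lie in the subgroup of x and w, then conjugation by
`1 = z (v⁻¹ z v x)³` shows that x commutes with q.
-/

set_option autoImplicit false

namespace H39
namespace HN

variable {Γ : Type*} [Group Γ]

/-- the element w of the presentation -/
abbrev wEl (x y : Γ) : Γ := y * x * y * x * (y ^ 2) * x * (y⁻¹)

/-- the element v of the presentation -/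
abbrev vEl (x y : Γ) : Γ := (y ^ 3) * x * y * x * y

/-- the element q -/
abbrev qEl (x y : Γ) : Γ := y⁻¹ * y⁻¹ * x * y * x * y * x * y⁻¹ * y⁻¹

theorem commute_of_mem {x w z : Γ} (hx : z * x = x * z) (hw : z * w = w * z) {m : Γ}
    (hm : m ∈ Subgroup.closure ({x, w} : Set Γ)) : z * m = m * z := by
  induction hm using Subgroup.closure_induction with
  | mem s hs =>
    rcases hs with rfl | hs
    · exact hx
    · obtain rfl : s = w := hs
      exact hw
  | one => simp
  | mul a b _ _ ha hb => exact Commute.mul_right ha hb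
  | inv a _ ha => exact Commute.inv_right ha

theorem x_comm_q {x y z q : Γ} (h : H77.HN.XYZRel x y z) (hx2 : x * x = 1)
    (hzw : z * wEl x y = wEl x y * z) (hzx : z * x = x * z)
    (hq : q ∈ Subgroup.closure ({x, wEl x y} : Set Γ))
    (hvq : vEl x y * q * (vEl x y)⁻¹ ∈ Subgroup.closure ({x, wEl x y} : Set Γ))
    (hvxq : vEl x y * (x * q * x) * (vEl x y)⁻¹ ∈ Subgroup.closure ({x, wEl x y} : Set Γ)) :
    x * q * x = q := by
  have hxi : x⁻¹ = x := inv_eq_of_mul_eq_one_right hx2
  set v := vEl x y with hv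
  have hxm : x ∈ Subgroup.closure ({x, wEl x y} : Set Γ) := Subgroup.subset_closure (by simp)
  set q' := x * q * x with hq'
  have hq'm : q' ∈ Subgroup.closure ({x, wEl x y} : Set Γ) := mul_mem (mul_mem hxm hq) hxm
  set s := v⁻¹ * z * v with hs
  have hcomm : ∀ m : Γ, v * m * v⁻¹ ∈ Subgroup.closure ({x, wEl x y} : Set Γ) →
      s * m * s⁻¹ = m := by
    intro m hm
    have hk : Commute z (v * m * v⁻¹) := commute_of_mem hzx hzw hm
    calc s * m * s⁻¹ = v⁻¹ * (z * (v * m * v⁻¹) * z⁻¹) * v := by rw [hs]; group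
      _ = v⁻¹ * (v * m * v⁻¹) * v := by rw [hk.eq, mul_inv_cancel_right]
      _ = m := by group
  have e1 : (s * x) * q * (s * x)⁻¹ = q' := by
    calc (s * x) * q * (s * x)⁻¹ = s * (x * q * x⁻¹) * s⁻¹ := by group
      _ = s * q' * s⁻¹ := by rw [hxi]
      _ = q' := hcomm _ hvxq
  have e2 : (s * x) * q' * (s * x)⁻¹ = q := by
    calc (s * x) * q' * (s * x)⁻¹ = s * ((x * x) * q * (x * x⁻¹)) * s⁻¹ := by rw [hq']; group
      _ = s * q * s⁻¹ := by rw [hx2, mul_inv_cancel, one_mul, mul_one]
      _ = q := hcomm _ hvq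
  have hg : z * (s * x) ^ 3 = 1 := h.z_conj
  have hzq : Commute z q' := commute_of_mem hzx hzw hq'm
  have h3 : (z * (s * x) ^ 3) * q * (z * (s * x) ^ 3)⁻¹ = q' := by
    calc (z * (s * x) ^ 3) * q * (z * (s * x) ^ 3)⁻¹
        = z * ((s * x) * ((s * x) * ((s * x) * q * (s * x)⁻¹) * (s * x)⁻¹) * (s * x)⁻¹) * z⁻¹ := by
          simp only [pow_succ, pow_zero]; group
      _ = z * q' * z⁻¹ := by rw [e1, e2, e1]
      _ = q' := by rw [hzq.eq, mul_inv_cancel_right]
  rw [hg] at h3
  simpa using h3.symm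

/-- facts about the square of x -/
theorem sq_central {x y z : Γ} (h : H77.HN.XYZRel x y z) (hx4 : x ^ 4 = 1) :
    (x * x) * (x * x) = 1 ∧ Commute (x * x) x ∧ Commute (x * x) y ∧ Commute (x * x) z := by
  have hc : (x * x) * (x * x) = 1 := by rw [← hx4]; simp [pow_succ, mul_assoc]
  have hci : (x * x)⁻¹ = x * x := inv_eq_of_mul_eq_one_right hc
  refine ⟨hc, (Commute.refl x).mul_left (Commute.refl x), ?_, ?_⟩
  · have h1 : (x * x) * y * (x * x) = y := by
      have h2 := h.x2_y
      rw [mul_inv_eq_one] at h2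
      rw [pow_two] at h2
      exact h2
    show (x * x) * y = y * (x * x)
    calc (x * x) * y = ((x * x) * y * (x * x)) * (x * x)⁻¹ := by group
      _ = y * (x * x) := by rw [h1, hci]
  · have hz : z⁻¹ = z := inv_eq_of_mul_eq_one_right (by rw [← pow_two]; exact h.z_two)
    have h1 : z * x * z⁻¹ = x⁻¹ := by
      have h2 := h.zx_two
      rw [pow_two] at h2
      rw [hz]
      exact eq_inv_of_mul_eq_one_left (by simpa [mul_assoc] using h2)
    show (x * x) * z = z * (x * x)
    calc (x * x) * z = (x⁻¹ * x⁻¹) * z := by rw [← mul_inv_rev, hci]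
      _ = (z * x * z⁻¹) * (z * x * z⁻¹) * z := by rw [h1]
      _ = z * (x * x) := by group

end HN
end H39
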