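import Mathlib
import Cfsg.Agent.H93.CI.Deriv

/-!
Letters for x, y, z and their inverses, words proved to be trivial or to lie in a subgroup by
checked derivations, and the bound for a subgroup with a closed list of coset representatives.
-/

set_option autoImplicit false

namespace H39
namespace HN

open H93.CosetI

/-- the letter of the inverse -/
def iv (g : ℕ) : ℕ := Nat.xor g 1

/-- the letters `a, a⁻¹, b, b⁻¹, c, c⁻¹` -/
def gen {Γ : Type*} [Group Γ] (a b c : Γ) : ℕ → Γ
  | 0 => a
  | 1 => a⁻¹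
  | 2 => b
  | 3 => b⁻¹
  | 4 => c
  | 5 => c⁻¹
  | _ => 1

variable {Γ : Type*} [Group Γ] {a b c : Γ}

theorem iv_lt_four : ∀ g < 4, iv g < 4 := by decide

theorem iv_lt_six : ∀ g < 6, iv g < 6 := by decide

theorem gen_inv : ∀ g < 6, gen a b c (iv g) * gen a b c g = 1 := by
  intro g hg
  match g, hg with
  | 0, _ => exact inv_mul_cancel a
  | 1, _ => exact mul_inv_cancel a
  | 2, _ => exact inv_mul_cancel b
  | 3, _ => exact mul_inv_cancel b
  | 4, _ => exact inv_mul_cancel c
  | 5, _ => exact mul_inv_cancel c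
  | k + 6, h => exact absurd h (by omega)

/-- all final paths of a derivation -/
def finalsOK (P : Deriv) (N : ℕ) (ps : List (List ℕ)) (ts : List (List ℕ)) : Bool :=
  ps.length == ts.length && (ps.zip ts).all fun e => P.finalOK N e.1 e.2

theorem fix_of_finals {G X : Type*} [Group G] [MulAction G X] {P : Deriv} {f : ℕ → G} {x₀ : X}
    (h : P.Hyp f x₀) {N : ℕ} (hN : ∀ i < N, P.Holds f x₀ i) {ps ts : List (List ℕ)}
    (hok : finalsOK P N ps ts = true) : ∀ w ∈ ts, ev f w • x₀ = x₀ := by
  simp only [finalsOK, Bool.and_eq_true, beq_iff_eq, List.all_eq_true] at hok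
  intro w hw
  obtain ⟨k, hk, rfl⟩ := List.getElem_of_mem hw
  have hk' : k < ps.length := hok.1 ▸ hk
  have hz : k < (ps.zip ts).length := by simp only [List.length_zip]; omega
  have := hok.2 _ (List.getElem_mem (l := ps.zip ts) hz)
  rw [List.getElem_zip] at this
  exact Deriv.fix_of_word h hN this

/-- hypotheses of a derivation in the cosets of a subgroup -/
theorem quotHyp {P : Deriv} (hng : P.ng ≤ 6) (hiv : P.iv = iv)
    (hlt : ∀ g < P.ng, iv g < P.ng) (H : Subgroup Γ)
    (hr : ∀ w ∈ P.words.take P.nrel, ev (gen a b c) w = 1)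
    (hs : ∀ w ∈ P.words.drop P.nrel, ev (gen a b c) w ∈ H) :
    P.Hyp (gen a b c) ((1 : Γ) : Γ ⧸ H) where
  inv g hg := by rw [hiv]; exact gen_inv g (lt_of_lt_of_le hg hng)
  ivlt g hg := by rw [hiv]; exact hlt g hg
  rels w hw := hr w hw
  subs w hw := by
    rw [← List.take_append_drop P.nrel P.words, List.mem_append] at hw
    rcases hw with hw | hw
    · rw [hr w hw, one_smul]
    · show ((ev (gen a b c) w * 1 : Γ) : Γ ⧸ H) = ((1 : Γ) : Γ ⧸ H)
      rw [QuotientGroup.eq, mul_one, mul_one]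
      exact inv_mem (hs w hw)

theorem mem_of_fix {H : Subgroup Γ} {e : Γ}
    (h : e • ((1 : Γ) : Γ ⧸ H) = ((1 : Γ) : Γ ⧸ H)) : e ∈ H := by
  change ((e * 1 : Γ) : Γ ⧸ H) = ((1 : Γ) : Γ ⧸ H) at h
  rw [QuotientGroup.eq, mul_one, mul_one] at h
  exact inv_mem_iff.mp h

/-- a derivation in the cosets of the trivial subgroup gives relations -/
theorem eq_one_of_fix {e : Γ}
    (h : e • ((1 : Γ) : Γ ⧸ (⊥ : Subgroup Γ)) = ((1 : Γ) : Γ ⧸ (⊥ : Subgroup Γ))) : e = 1 :=
  Subgroup.mem_bot.mp (mem_of_fix h)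

/-- the loop of an edge from node `i` by the letter `g` to node `j` -/
def loopWord (reps : List (List ℕ)) (e : ℕ × ℕ × ℕ) : List ℕ :=
  reps.getD e.1 [] ++ e.2.1 :: ((reps.getD e.2.2 []).map iv).reverse

/-- every node has an edge for every letter of `gs` -/
def complete (reps : List (List ℕ)) (gs : List ℕ) (es : List (ℕ × ℕ × ℕ)) : Bool :=
  reps.getD 0 [0] == [] && es.all (fun e => decide (e.2.2 < reps.length)) &&
    reps.all (fun r => r.all fun g => decide (g < 6)) &&
    es.map (fun e => (e.1, e.2.1)) == (List.range reps.length).flatMap (fun i => gs.map fun g => (i, g))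

/-- a subgroup with a complete list of edges has at most `#reps` times as many elements as the
stabiliser of the first node -/
theorem card_le_of_edges (H : Subgroup Γ) [Finite H] {n h : ℕ} (hH : Nat.card H ≤ h)
    {reps : List (List ℕ)} (hn : reps.length = n) {gs : List ℕ} {es : List (ℕ × ℕ × ℕ)}
    (hc : complete reps gs es = true)
    (hloop : ∀ w ∈ es.map (loopWord reps), ev (gen a b c) w ∈ H)
    (S : Set Γ) (hS : ∀ s ∈ S, (∃ g ∈ gs, gen a b c g = s) ∧ ∃ g ∈ gs, gen a b c g = s⁻¹) :
    Finite (Subgroup.closure S) ∧ Nat.card (Subgroup.closure S) ≤ n * h := by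
  simp only [complete, Bool.and_eq_true, beq_iff_eq, List.all_eq_true, decide_eq_true_eq] at hc
  obtain ⟨⟨⟨h0, hj⟩, hlet⟩, hes⟩ := hc
  set R : ℕ → Γ := fun i => ev (gen a b c) (reps.getD i []) with hR
  have hlet' : ∀ i, ∀ g ∈ reps.getD i [], g < 6 := by
    intro i g hg
    by_cases hi : i < reps.length
    · rw [List.getD_eq_getElem _ _ hi] at hg
      exact hlet _ (List.getElem_mem hi) g hg
    · rw [List.getD_eq_default _ _ (by omega)] at hg
      simp at hg
  have hedge : ∀ i < reps.length, ∀ g ∈ gs, ∃ j < reps.length,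
      (R j)⁻¹ * (gen a b c g * R i) ∈ H := by
    intro i hi g hg
    have hm : (i, g) ∈ es.map (fun e => (e.1, e.2.1)) := by
      rw [hes, List.mem_flatMap]
      exact ⟨i, List.mem_range.mpr hi, List.mem_map.mpr ⟨g, hg, rfl⟩⟩
    obtain ⟨⟨i', g', j⟩, he, heq⟩ := List.mem_map.mp hm
    simp only [Prod.mk.injEq] at heq
    obtain ⟨rfl, rfl⟩ := heq
    refine ⟨j, hj _ he, ?_⟩
    have hw := hloop _ (List.mem_map.mpr ⟨_, he, rfl⟩)
    simp only [loopWord, ev_append, ev] at hw
    rwa [ev_reverse (gen a b c) (m := 6) gen_inv _ (hlet' j), mul_assoc] at hw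
  let P : Γ → Prop := fun e => ∀ i < reps.length, ∃ j < reps.length, (R j)⁻¹ * (e * R i) ∈ H
  have key : ∀ e ∈ Subgroup.closure S, P e ∧ P e⁻¹ := by
    intro e he
    induction he using Subgroup.closure_induction with
    | mem s hs =>
      obtain ⟨⟨g, hg, e1⟩, g', hg', e2⟩ := hS s hs
      exact ⟨fun i hi => e1 ▸ hedge i hi g hg, fun i hi => e2 ▸ hedge i hi g' hg'⟩
    | one =>
      have : P 1 := fun i hi => ⟨i, hi, by simp [H.one_mem]⟩
      exact ⟨this, by rwa [inv_one]⟩
    | mul u v _ _ hu hv =>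
      have hmul : ∀ u v : Γ, P u → P v → P (u * v) := by
        intro u v hu hv i hi
        obtain ⟨j, hj, h1⟩ := hv i hi
        obtain ⟨k, hk, h2⟩ := hu j hj
        refine ⟨k, hk, ?_⟩
        have := H.mul_mem h2 h1
        convert this using 1
        group
      exact ⟨hmul u v hu.1 hv.1, by rw [mul_inv_rev]; exact hmul _ _ hv.2 hu.2⟩
    | inv u _ hu => exact ⟨hu.2, by rw [inv_inv]; exact hu.1⟩
  have hpos : 0 < reps.length := by
    by_contra hcon
    rw [List.getD_eq_default _ _ (by omega)] at h0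
    simp at h0
  have hR0 : R 0 = 1 := by
    rw [List.getD_eq_getElem _ _ hpos] at h0
    simp only [hR, List.getD_eq_getElem _ _ hpos, h0, ev]
  let f : Subgroup.closure S → Fin reps.length × H := fun e =>
    (⟨((key e.1 e.2).1 0 hpos).choose, ((key e.1 e.2).1 0 hpos).choose_spec.1⟩,
      ⟨_, ((key e.1 e.2).1 0 hpos).choose_spec.2⟩)
  have hf : Function.Injective f := by
    intro e e' hee
    have h1 := congrArg (fun p : Fin reps.length × H => R p.1 * p.2.1) hee
    simp only [f, mul_inv_cancel_left, hR0, mul_one] at h1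
    exact Subtype.ext h1
  refine ⟨Finite.of_injective f hf, (Nat.card_le_card_of_injective f hf).trans ?_⟩
  rw [Nat.card_prod, Nat.card_fin, hn]
  exact Nat.mul_le_mul le_rfl hH

end HN
end H39
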