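import Cfsg.Agent.H39.HN.Main
import Cfsg.Agent.H77.HN.Group

/-!
The bound required by the Harada–Norton library.
-/

set_option autoImplicit false

namespace H39
namespace HN

/-- the hypothesis of the library -/
theorem xyzBound : H77.HN.XYZBound := ⟨fun h => card_closure_le h⟩

end HN
end H39
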