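import Cfsg.Agent.H39.HN.Mem.P0
import Cfsg.Agent.H39.HN.Mem.P1
import Cfsg.Agent.H39.HN.Mem.P2
import Cfsg.Agent.H39.HN.Mem.P3
import Cfsg.Agent.H39.HN.Mem.P4
import Cfsg.Agent.H39.HN.Mem.P5
import Cfsg.Agent.H39.HN.Mem.P6
import Cfsg.Agent.H39.HN.Mem.P7

/-!
A derivation (generated data).
-/

set_option autoImplicit false
set_option maxRecDepth 100000
set_option linter.all false
set_option Elab.async false

namespace H39
namespace HN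
namespace Mem

open H93.CosetI

noncomputable section

variable {Γ : Type*} [Group Γ] {a b c : Γ}

def targets : List (List ℕ) := [[3,3,0,2,0,2,0,3,3],
  [3,3,3,1,3,1,3,3,3,0,2,0,2,0,3,3,2,0,2,0,2,2,2],
  [3,3,3,1,3,1,3,0,3,3,0,2,0,2,0,3,3,0,2,0,2,0,2,2,2]]

def paths : List (List ℕ) := [[2,14555,268,14735,14733,14434,14611,19,17],
  [2,14555,15461,261,15155,279,15521,703,15402,152,15298,264,15445,15533,147,15521,15520,278,15154,260,15460,14554,3],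
  [2,14555,15461,261,15155,279,15521,15113,29,15536,15556,150,152,15298,264,33,31,15110,15520,278,15154,260,15460,14554,3]]

theorem final : finalsOK data 7779 paths targets = true := by decide +kernel

theorem holds_0 {H : Subgroup Γ} : ∀ i < 0, data.Holds (gen a b c) ((1 : Γ) : Γ ⧸ H) i :=
  fun i hi => absurd hi (Nat.not_lt_zero i)

theorem holds_1 {H : Subgroup Γ} (h : data.Hyp (gen a b c) ((1 : Γ) : Γ ⧸ H)) :
    ∀ i < 250, data.Holds (gen a b c) ((1 : Γ) : Γ ⧸ H) i :=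
  Deriv.steps_sound h st0 ok0 holds_0

theorem holds_2 {H : Subgroup Γ} (h : data.Hyp (gen a b c) ((1 : Γ) : Γ ⧸ H)) :
    ∀ i < 500, data.Holds (gen a b c) ((1 : Γ) : Γ ⧸ H) i :=
  Deriv.steps_sound h st1 ok1 (holds_1 h)

theorem holds_3 {H : Subgroup Γ} (h : data.Hyp (gen a b c) ((1 : Γ) : Γ ⧸ H)) :
    ∀ i < 750, data.Holds (gen a b c) ((1 : Γ) : Γ ⧸ H) i :=
  Deriv.steps_sound h st2 ok2 (holds_2 h)

theorem holds_4 {H : Subgroup Γ} (h : data.Hyp (gen a b c) ((1 : Γ) : Γ ⧸ H)) :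
    ∀ i < 1000, data.Holds (gen a b c) ((1 : Γ) : Γ ⧸ H) i :=
  Deriv.steps_sound h st3 ok3 (holds_3 h)

theorem holds_5 {H : Subgroup Γ} (h : data.Hyp (gen a b c) ((1 : Γ) : Γ ⧸ H)) :
    ∀ i < 1250, data.Holds (gen a b c) ((1 : Γ) : Γ ⧸ H) i :=
  Deriv.steps_sound h st4 ok4 (holds_4 h)

theorem holds_6 {H : Subgroup Γ} (h : data.Hyp (gen a b c) ((1 : Γ) : Γ ⧸ H)) :
    ∀ i < 1500, data.Holds (gen a b c) ((1 : Γ) : Γ ⧸ H) i :=
  Deriv.steps_sound h st5 ok5 (holds_5 h)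

theorem holds_7 {H : Subgroup Γ} (h : data.Hyp (gen a b c) ((1 : Γ) : Γ ⧸ H)) :
    ∀ i < 1750, data.Holds (gen a b c) ((1 : Γ) : Γ ⧸ H) i :=
  Deriv.steps_sound h st6 ok6 (holds_6 h)

theorem holds_8 {H : Subgroup Γ} (h : data.Hyp (gen a b c) ((1 : Γ) : Γ ⧸ H)) :
    ∀ i < 2000, data.Holds (gen a b c) ((1 : Γ) : Γ ⧸ H) i :=
  Deriv.steps_sound h st7 ok7 (holds_7 h)

theorem holds_9 {H : Subgroup Γ} (h : data.Hyp (gen a b c) ((1 : Γ) : Γ ⧸ H)) :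
    ∀ i < 2250, data.Holds (gen a b c) ((1 : Γ) : Γ ⧸ H) i :=
  Deriv.steps_sound h st8 ok8 (holds_8 h)

theorem holds_10 {H : Subgroup Γ} (h : data.Hyp (gen a b c) ((1 : Γ) : Γ ⧸ H)) :
    ∀ i < 2500, data.Holds (gen a b c) ((1 : Γ) : Γ ⧸ H) i :=
  Deriv.steps_sound h st9 ok9 (holds_9 h)

theorem holds_11 {H : Subgroup Γ} (h : data.Hyp (gen a b c) ((1 : Γ) : Γ ⧸ H)) :
    ∀ i < 2750, data.Holds (gen a b c) ((1 : Γ) : Γ ⧸ H) i :=
  Deriv.steps_sound h st10 ok10 (holds_10 h)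

theorem holds_12 {H : Subgroup Γ} (h : data.Hyp (gen a b c) ((1 : Γ) : Γ ⧸ H)) :
    ∀ i < 3000, data.Holds (gen a b c) ((1 : Γ) : Γ ⧸ H) i :=
  Deriv.steps_sound h st11 ok11 (holds_11 h)

theorem holds_13 {H : Subgroup Γ} (h : data.Hyp (gen a b c) ((1 : Γ) : Γ ⧸ H)) :
    ∀ i < 3250, data.Holds (gen a b c) ((1 : Γ) : Γ ⧸ H) i :=
  Deriv.steps_sound h st12 ok12 (holds_12 h)

theorem holds_14 {H : Subgroup Γ} (h : data.Hyp (gen a b c) ((1 : Γ) : Γ ⧸ H)) :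
    ∀ i < 3500, data.Holds (gen a b c) ((1 : Γ) : Γ ⧸ H) i :=
  Deriv.steps_sound h st13 ok13 (holds_13 h)

theorem holds_15 {H : Subgroup Γ} (h : data.Hyp (gen a b c) ((1 : Γ) : Γ ⧸ H)) :
    ∀ i < 3750, data.Holds (gen a b c) ((1 : Γ) : Γ ⧸ H) i :=
  Deriv.steps_sound h st14 ok14 (holds_14 h)

theorem holds_16 {H : Subgroup Γ} (h : data.Hyp (gen a b c) ((1 : Γ) : Γ ⧸ H)) :
    ∀ i < 4000, data.Holds (gen a b c) ((1 : Γ) : Γ ⧸ H) i :=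
  Deriv.steps_sound h st15 ok15 (holds_15 h)

theorem holds_17 {H : Subgroup Γ} (h : data.Hyp (gen a b c) ((1 : Γ) : Γ ⧸ H)) :
    ∀ i < 4250, data.Holds (gen a b c) ((1 : Γ) : Γ ⧸ H) i :=
  Deriv.steps_sound h st16 ok16 (holds_16 h)

theorem holds_18 {H : Subgroup Γ} (h : data.Hyp (gen a b c) ((1 : Γ) : Γ ⧸ H)) :
    ∀ i < 4500, data.Holds (gen a b c) ((1 : Γ) : Γ ⧸ H) i :=
  Deriv.steps_sound h st17 ok17 (holds_17 h)

theorem holds_19 {H : Subgroup Γ} (h : data.Hyp (gen a b c) ((1 : Γ) : Γ ⧸ H)) :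
    ∀ i < 4750, data.Holds (gen a b c) ((1 : Γ) : Γ ⧸ H) i :=
  Deriv.steps_sound h st18 ok18 (holds_18 h)

theorem holds_20 {H : Subgroup Γ} (h : data.Hyp (gen a b c) ((1 : Γ) : Γ ⧸ H)) :
    ∀ i < 5000, data.Holds (gen a b c) ((1 : Γ) : Γ ⧸ H) i :=
  Deriv.steps_sound h st19 ok19 (holds_19 h)

theorem holds_21 {H : Subgroup Γ} (h : data.Hyp (gen a b c) ((1 : Γ) : Γ ⧸ H)) :
    ∀ i < 5250, data.Holds (gen a b c) ((1 : Γ) : Γ ⧸ H) i :=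
  Deriv.steps_sound h st20 ok20 (holds_20 h)

theorem holds_22 {H : Subgroup Γ} (h : data.Hyp (gen a b c) ((1 : Γ) : Γ ⧸ H)) :
    ∀ i < 5500, data.Holds (gen a b c) ((1 : Γ) : Γ ⧸ H) i :=
  Deriv.steps_sound h st21 ok21 (holds_21 h)

theorem holds_23 {H : Subgroup Γ} (h : data.Hyp (gen a b c) ((1 : Γ) : Γ ⧸ H)) :
    ∀ i < 5750, data.Holds (gen a b c) ((1 : Γ) : Γ ⧸ H) i :=
  Deriv.steps_sound h st22 ok22 (holds_22 h)

theorem holds_24 {H : Subgroup Γ} (h : data.Hyp (gen a b c) ((1 : Γ) : Γ ⧸ H)) :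
    ∀ i < 6000, data.Holds (gen a b c) ((1 : Γ) : Γ ⧸ H) i :=
  Deriv.steps_sound h st23 ok23 (holds_23 h)

theorem holds_25 {H : Subgroup Γ} (h : data.Hyp (gen a b c) ((1 : Γ) : Γ ⧸ H)) :
    ∀ i < 6250, data.Holds (gen a b c) ((1 : Γ) : Γ ⧸ H) i :=
  Deriv.steps_sound h st24 ok24 (holds_24 h)

theorem holds_26 {H : Subgroup Γ} (h : data.Hyp (gen a b c) ((1 : Γ) : Γ ⧸ H)) :
    ∀ i < 6500, data.Holds (gen a b c) ((1 : Γ) : Γ ⧸ H) i :=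
  Deriv.steps_sound h st25 ok25 (holds_25 h)

theorem holds_27 {H : Subgroup Γ} (h : data.Hyp (gen a b c) ((1 : Γ) : Γ ⧸ H)) :
    ∀ i < 6750, data.Holds (gen a b c) ((1 : Γ) : Γ ⧸ H) i :=
  Deriv.steps_sound h st26 ok26 (holds_26 h)

theorem holds_28 {H : Subgroup Γ} (h : data.Hyp (gen a b c) ((1 : Γ) : Γ ⧸ H)) :
    ∀ i < 7000, data.Holds (gen a b c) ((1 : Γ) : Γ ⧸ H) i :=
  Deriv.steps_sound h st27 ok27 (holds_27 h)

theorem holds_29 {H : Subgroup Γ} (h : data.Hyp (gen a b c) ((1 : Γ) : Γ ⧸ H)) :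
    ∀ i < 7250, data.Holds (gen a b c) ((1 : Γ) : Γ ⧸ H) i :=
  Deriv.steps_sound h st28 ok28 (holds_28 h)

theorem holds_30 {H : Subgroup Γ} (h : data.Hyp (gen a b c) ((1 : Γ) : Γ ⧸ H)) :
    ∀ i < 7500, data.Holds (gen a b c) ((1 : Γ) : Γ ⧸ H) i :=
  Deriv.steps_sound h st29 ok29 (holds_29 h)

theorem holds_31 {H : Subgroup Γ} (h : data.Hyp (gen a b c) ((1 : Γ) : Γ ⧸ H)) :
    ∀ i < 7750, data.Holds (gen a b c) ((1 : Γ) : Γ ⧸ H) i :=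
  Deriv.steps_sound h st30 ok30 (holds_30 h)

theorem holds_32 {H : Subgroup Γ} (h : data.Hyp (gen a b c) ((1 : Γ) : Γ ⧸ H)) :
    ∀ i < 7779, data.Holds (gen a b c) ((1 : Γ) : Γ ⧸ H) i :=
  Deriv.steps_sound h st31 ok31 (holds_31 h)

/-- the targets lie in any subgroup that contains the subgroup words -/
theorem mem (hr : ∀ w ∈ rels, ev (gen a b c) w = 1) (H : Subgroup Γ)
    (hs : ∀ w ∈ subs, ev (gen a b c) w ∈ H) : ∀ w ∈ targets, ev (gen a b c) w ∈ H := fun w hw =>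
  mem_of_fix (fix_of_finals
    (quotHyp (P := data) (by decide) rfl iv_lt_four H hr hs)
    (holds_32 (quotHyp (P := data) (by decide) rfl iv_lt_four H hr hs)) final w hw)

end

end Mem
end HN
end H39
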