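import Cfsg.Agent.H39.HN.Xa.P0

/-!
A derivation (generated data).
-/

set_option autoImplicit false
set_option maxRecDepth 100000
set_option linter.all false
set_option Elab.async false

namespace H39
namespace HN
namespace Xa

open H93.CosetI

noncomputable section

variable {Γ : Type*} [Group Γ] {a b c : Γ}

def targets : List (List ℕ) := [[3,0,2,2,0,2,0,2,3,0,2,2,0,2,0,2,3,0,2,2,0,2,0,2,3,0,2,2,0,2,0,2,3,0,2,2,0,2,0,2,3,0,2,2,0,2,0,2,3,0,2,2,0,2,0,2,3,0,2,2,0,2,0,2,3,0,2,2,0,2,0,2,3,0,2,2,0,2,0,2,3,0,2,2,0,2,0,2,3,0,2,2,0,2,0,2]]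

def paths : List (List ℕ) := [[0,2,4,6,8,10,12,14,15,373,374,20,22,24,26,28,29,383,384,34,36,38,40,42,43,393,394,48,50,52,54,56,57,403,404,62,64,66,68,70,71,413,414,76,78,80,82,84,85,423,424,90,92,94,96,98,99,433,434,104,106,108,110,112,113,441,442,118,120,122,124,126,127,449,450,132,134,136,138,140,141,457,458,146,148,150,152,154,155,465,466,160,162,1675,256,1]]

theorem final : finalsOK data 838 paths targets = true := by decide +kernel

theorem holds_0 {H : Subgroup Γ} : ∀ i < 0, data.Holds (gen a b c) ((1 : Γ) : Γ ⧸ H) i :=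
  fun i hi => absurd hi (Nat.not_lt_zero i)

theorem holds_1 {H : Subgroup Γ} (h : data.Hyp (gen a b c) ((1 : Γ) : Γ ⧸ H)) :
    ∀ i < 250, data.Holds (gen a b c) ((1 : Γ) : Γ ⧸ H) i :=
  Deriv.steps_sound h st0 ok0 holds_0

theorem holds_2 {H : Subgroup Γ} (h : data.Hyp (gen a b c) ((1 : Γ) : Γ ⧸ H)) :
    ∀ i < 500, data.Holds (gen a b c) ((1 : Γ) : Γ ⧸ H) i :=
  Deriv.steps_sound h st1 ok1 (holds_1 h)

theorem holds_3 {H : Subgroup Γ} (h : data.Hyp (gen a b c) ((1 : Γ) : Γ ⧸ H)) :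
    ∀ i < 750, data.Holds (gen a b c) ((1 : Γ) : Γ ⧸ H) i :=
  Deriv.steps_sound h st2 ok2 (holds_2 h)

theorem holds_4 {H : Subgroup Γ} (h : data.Hyp (gen a b c) ((1 : Γ) : Γ ⧸ H)) :
    ∀ i < 838, data.Holds (gen a b c) ((1 : Γ) : Γ ⧸ H) i :=
  Deriv.steps_sound h st3 ok3 (holds_3 h)

/-- the targets lie in any subgroup that contains the subgroup words -/
theorem mem (hr : ∀ w ∈ rels, ev (gen a b c) w = 1) (H : Subgroup Γ)
    (hs : ∀ w ∈ subs, ev (gen a b c) w ∈ H) : ∀ w ∈ targets, ev (gen a b c) w ∈ H := fun w hw =>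
  mem_of_fix (fix_of_finals
    (quotHyp (P := data) (by decide) rfl iv_lt_four H hr hs)
    (holds_4 (quotHyp (P := data) (by decide) rfl iv_lt_four H hr hs)) final w hw)

end

end Xa
end HN
end H39
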