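import Cfsg.Agent.H39.HN.Step
import Cfsg.Agent.H39.HN.Mem
import Cfsg.Agent.H39.HN.Lad
import Cfsg.Agent.H39.HN.T50
import Cfsg.Agent.H39.HN.T420
import Cfsg.Agent.H39.HN.T352
import Cfsg.Agent.H39.HN.Xa
import Cfsg.Agent.H39.HN.Xb1
import Cfsg.Agent.H39.HN.Xb2
import Cfsg.Agent.H39.HN.X7

/-!
The relations fed from one derivation to the next (generated).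
-/

set_option autoImplicit false
set_option maxRecDepth 100000

namespace H39
namespace HN
namespace Chain

open H93.CosetI

variable {Γ : Type*} [Group Γ] {x y z : Γ}

theorem one_sq : (1 : Γ) * 1 = 1 := one_mul 1

theorem base (hx : x * x = 1) (h0 : ∀ w ∈ srcR0, ev (gen x y 1) w = 1) :
    ∀ w ∈ srcR0 ++ [[0, 0]], ev (gen x y 1) w = 1 := by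
  intro w hw
  rcases List.mem_append.mp hw with hw | hw
  · exact h0 w hw
  · simp only [List.mem_singleton] at hw; subst hw; simpa [ev, gen] using hx

theorem mem_q (hx : x * x = 1) (h0 : ∀ w ∈ srcR0, ev (gen x y 1) w = 1) (M : Subgroup Γ)
    (hM : ∀ u ∈ [[0], wWord], ev (gen x y 1) u ∈ M) :
    ∀ w ∈ [qWord, vqvWord, vxqxvWord], ev (gen x y 1) w ∈ M := by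
  have k0 := base hx h0
  have k1 := extend k0 (G12.mem (derive hx one_sq k0 [([3, 0, 0, 2, 0, 0], [], [0, 0]),
    ([2, 2, 2, 2, 2, 2], [], [2, 2, 2, 2, 2, 2]),
    ([2, 0, 3, 1, 2, 0, 3, 1, 2, 0, 3, 1], [2, 0], [3, 0, 2, 0, 3, 0, 2, 0, 3, 0, 2, 0]),
    ([2, 2, 2, 0, 2, 2, 1, 2, 2, 2, 0, 2, 2, 1, 2, 2, 2, 0, 2, 2, 1], [], [2, 2, 2, 0, 2, 2, 0, 2, 2, 2, 0, 2, 2, 0, 2, 2, 2, 0, 2, 2, 0]),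
    ([2, 0, 2, 0, 2, 0, 2, 0, 2, 0, 2, 0, 2, 0, 2, 0], [], [2, 0, 2, 0, 2, 0, 2, 0, 2, 0, 2, 0, 2, 0, 2, 0]),
    ([2, 2, 2, 0, 2, 0, 2, 2, 2, 0, 2, 0, 2, 2, 2, 0, 2, 0, 2, 2, 2, 0, 2, 0], [], [2, 2, 2, 0, 2, 0, 2, 2, 2, 0, 2, 0, 2, 2, 2, 0, 2, 0, 2, 2, 2, 0, 2, 0])] (by decide +kernel) (rels := G12.rels) (by decide +kernel)) ⊥ (by simp [G12.subs]))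
  have hr := derive hx one_sq k1 [([3, 0, 0, 2, 0, 0], [], [0, 0]),
    ([2, 2, 2, 2, 2, 2], [], [2, 2, 2, 2, 2, 2]),
    ([2, 0, 3, 1, 2, 0, 3, 1, 2, 0, 3, 1], [2, 0], [3, 0, 2, 0, 3, 0, 2, 0, 3, 0, 2, 0]),
    ([2, 2, 2, 0, 2, 2, 1, 2, 2, 2, 0, 2, 2, 1, 2, 2, 2, 0, 2, 2, 1], [], [2, 2, 2, 0, 2, 2, 0, 2, 2, 2, 0, 2, 2, 0, 2, 2, 2, 0, 2, 2, 0]),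
    ([2, 0, 2, 0, 2, 0, 2, 0, 2, 0, 2, 0, 2, 0, 2, 0], [], [2, 0, 2, 0, 2, 0, 2, 0, 2, 0, 2, 0, 2, 0, 2, 0]),
    ([2, 2, 2, 0, 2, 0, 2, 2, 2, 0, 2, 0, 2, 2, 2, 0, 2, 0, 2, 2, 2, 0, 2, 0], [], [2, 2, 2, 0, 2, 0, 2, 2, 2, 0, 2, 0, 2, 2, 2, 0, 2, 0, 2, 2, 2, 0, 2, 0]),
    ([3, 3, 3, 0, 2, 2, 2, 0, 3, 3, 0, 3, 3, 3, 0, 2, 0, 2, 2, 0, 3, 3, 3, 0, 2, 2, 0, 2, 2, 0, 2, 0, 3, 0, 2, 0], [], [3, 3, 3, 0, 2, 2, 2, 0, 3, 3, 0, 3, 3, 3, 0, 2, 0, 2, 2, 0, 3, 3, 3, 0, 2, 2, 0, 2, 2, 0, 2, 0, 3, 0, 2, 0])] (by decide +kernel) (rels := Mem.rels) (by decide +kernel)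
  have hs : Mem.subs = [[0], wWord] := by decide +kernel
  have ht : Mem.targets = [qWord, vqvWord, vxqxvWord] := by decide +kernel
  exact ht ▸ Mem.mem hr M (hs ▸ hM)

theorem rels (hx : x * x = 1) (h0 : ∀ w ∈ srcR0, ev (gen x y 1) w = 1)
    (h5 : ev (gen x y 1) srcR5 = 1) :
    (∀ w ∈ T50.rels, ev (gen x y 1) w = 1) ∧ ∀ w ∈ T420.rels, ev (gen x (wEl x y) 1) w = 1 := by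
  have k0 : ∀ w ∈ srcR0 ++ [[0, 0]] ++ [srcR5], ev (gen x y 1) w = 1 := by
    intro w hw
    rcases List.mem_append.mp hw with hw | hw
    · exact base hx h0 w hw
    · simp only [List.mem_singleton] at hw; subst hw; exact h5
  have k1 := extend k0 (L2.mem (derive hx one_sq k0 [([3, 0, 0, 2, 0, 0], [], [0, 0]),
    ([2, 2, 2, 2, 2, 2], [], [2, 2, 2, 2, 2, 2]),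
    ([2, 0, 3, 1, 2, 0, 3, 1, 2, 0, 3, 1], [2, 0], [3, 0, 2, 0, 3, 0, 2, 0, 3, 0, 2, 0]),
    ([2, 2, 2, 0, 2, 2, 1, 2, 2, 2, 0, 2, 2, 1, 2, 2, 2, 0, 2, 2, 1], [], [2, 2, 2, 0, 2, 2, 0, 2, 2, 2, 0, 2, 2, 0, 2, 2, 2, 0, 2, 2, 0]),
    ([2, 0, 2, 0, 2, 0, 2, 0, 2, 0, 2, 0, 2, 0, 2, 0], [], [2, 0, 2, 0, 2, 0, 2, 0, 2, 0, 2, 0, 2, 0, 2, 0]),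
    ([2, 2, 2, 0, 2, 0, 2, 2, 2, 0, 2, 0, 2, 2, 2, 0, 2, 0, 2, 2, 2, 0, 2, 0], [], [2, 2, 2, 0, 2, 0, 2, 2, 2, 0, 2, 0, 2, 2, 2, 0, 2, 0, 2, 2, 2, 0, 2, 0]),
    ([3, 3, 0, 2, 0, 2, 0, 3, 3, 0, 2, 2, 1, 3, 1, 3, 1, 2, 2, 1], [], [3, 3, 0, 2, 0, 2, 0, 3, 3, 0, 2, 2, 0, 3, 0, 3, 0, 2, 2, 0]),
    ([2, 2, 2, 2, 2, 2], [], [2, 2, 2, 2, 2, 2])] (by decide +kernel) (rels := L2.rels) (by decide +kernel)) ⊥ (by simp [L2.subs]))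
  have k2 := extend k1 (L4.mem (derive hx one_sq k1 [([3, 0, 0, 2, 0, 0], [], [0, 0]),
    ([2, 2, 2, 2, 2, 2], [], [2, 2, 2, 2, 2, 2]),
    ([2, 0, 3, 1, 2, 0, 3, 1, 2, 0, 3, 1], [2, 0], [3, 0, 2, 0, 3, 0, 2, 0, 3, 0, 2, 0]),
    ([2, 2, 2, 0, 2, 2, 1, 2, 2, 2, 0, 2, 2, 1, 2, 2, 2, 0, 2, 2, 1], [], [2, 2, 2, 0, 2, 2, 0, 2, 2, 2, 0, 2, 2, 0, 2, 2, 2, 0, 2, 2, 0]),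
    ([2, 0, 2, 0, 2, 0, 2, 0, 2, 0, 2, 0, 2, 0, 2, 0], [], [2, 0, 2, 0, 2, 0, 2, 0, 2, 0, 2, 0, 2, 0, 2, 0]),
    ([2, 2, 2, 0, 2, 0, 2, 2, 2, 0, 2, 0, 2, 2, 2, 0, 2, 0, 2, 2, 2, 0, 2, 0], [], [2, 2, 2, 0, 2, 0, 2, 2, 2, 0, 2, 0, 2, 2, 2, 0, 2, 0, 2, 2, 2, 0, 2, 0]),
    ([3, 3, 0, 2, 0, 2, 0, 3, 3, 0, 2, 2, 1, 3, 1, 3, 1, 2, 2, 1], [], [3, 3, 0, 2, 0, 2, 0, 3, 3, 0, 2, 2, 0, 3, 0, 3, 0, 2, 2, 0]),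
    ([3, 0, 2, 0, 3, 0, 2, 0, 2, 2, 2, 2, 2, 0, 2, 0], [], [3, 0, 2, 0, 3, 0, 2, 0, 2, 2, 2, 2, 2, 0, 2, 0]),
    ([2, 0, 2, 0, 2, 0, 2, 0, 2, 0, 2, 0, 2, 0, 2, 0], [], [2, 0, 2, 0, 2, 0, 2, 0, 2, 0, 2, 0, 2, 0, 2, 0])] (by decide +kernel) (rels := L4.rels) (by decide +kernel)) ⊥ (by simp [L4.subs]))
  have k3 := extend k2 (L5.mem (derive hx one_sq k2 [([3, 0, 0, 2, 0, 0], [], [0, 0]),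
    ([2, 2, 2, 2, 2, 2], [], [2, 2, 2, 2, 2, 2]),
    ([2, 0, 3, 1, 2, 0, 3, 1, 2, 0, 3, 1], [2, 0], [3, 0, 2, 0, 3, 0, 2, 0, 3, 0, 2, 0]),
    ([2, 2, 2, 0, 2, 2, 1, 2, 2, 2, 0, 2, 2, 1, 2, 2, 2, 0, 2, 2, 1], [], [2, 2, 2, 0, 2, 2, 0, 2, 2, 2, 0, 2, 2, 0, 2, 2, 2, 0, 2, 2, 0]),
    ([2, 0, 2, 0, 2, 0, 2, 0, 2, 0, 2, 0, 2, 0, 2, 0], [], [2, 0, 2, 0, 2, 0, 2, 0, 2, 0, 2, 0, 2, 0, 2, 0]),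
    ([2, 2, 2, 0, 2, 0, 2, 2, 2, 0, 2, 0, 2, 2, 2, 0, 2, 0, 2, 2, 2, 0, 2, 0], [], [2, 2, 2, 0, 2, 0, 2, 2, 2, 0, 2, 0, 2, 2, 2, 0, 2, 0, 2, 2, 2, 0, 2, 0]),
    ([3, 3, 0, 2, 0, 2, 0, 3, 3, 0, 2, 2, 1, 3, 1, 3, 1, 2, 2, 1], [], [3, 3, 0, 2, 0, 2, 0, 3, 3, 0, 2, 2, 0, 3, 0, 3, 0, 2, 2, 0])] (by decide +kernel) (rels := L5.rels) (by decide +kernel)) ⊥ (by simp [L5.subs]))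
  have k4 := extend k3 (L6.mem (derive hx one_sq k3 [([3, 0, 0, 2, 0, 0], [], [0, 0]),
    ([2, 2, 2, 2, 2, 2], [], [2, 2, 2, 2, 2, 2]),
    ([2, 0, 3, 1, 2, 0, 3, 1, 2, 0, 3, 1], [2, 0], [3, 0, 2, 0, 3, 0, 2, 0, 3, 0, 2, 0]),
    ([2, 2, 2, 0, 2, 2, 1, 2, 2, 2, 0, 2, 2, 1, 2, 2, 2, 0, 2, 2, 1], [], [2, 2, 2, 0, 2, 2, 0, 2, 2, 2, 0, 2, 2, 0, 2, 2, 2, 0, 2, 2, 0]),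
    ([2, 0, 2, 0, 2, 0, 2, 0, 2, 0, 2, 0, 2, 0, 2, 0], [], [2, 0, 2, 0, 2, 0, 2, 0, 2, 0, 2, 0, 2, 0, 2, 0]),
    ([2, 2, 2, 0, 2, 0, 2, 2, 2, 0, 2, 0, 2, 2, 2, 0, 2, 0, 2, 2, 2, 0, 2, 0], [], [2, 2, 2, 0, 2, 0, 2, 2, 2, 0, 2, 0, 2, 2, 2, 0, 2, 0, 2, 2, 2, 0, 2, 0]),
    ([3, 3, 0, 2, 0, 2, 0, 3, 3, 0, 2, 2, 1, 3, 1, 3, 1, 2, 2, 1], [], [3, 3, 0, 2, 0, 2, 0, 3, 3, 0, 2, 2, 0, 3, 0, 3, 0, 2, 2, 0]),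
    ([2, 2, 2, 2, 2, 2], [], [2, 2, 2, 2, 2, 2]),
    ([3, 0, 2, 0, 3, 0, 2, 0, 2, 2, 2, 2, 2, 0, 2, 0], [], [3, 0, 2, 0, 3, 0, 2, 0, 2, 2, 2, 2, 2, 0, 2, 0]),
    ([3, 3, 0, 2, 0, 2, 0, 3, 3, 0, 2, 2, 1, 3, 1, 3, 1, 2, 2, 1], [3, 3, 0, 2, 0, 2, 0], [3, 3, 0, 2, 2, 0, 3, 0, 3, 0, 2, 2, 0, 3, 3, 0, 2, 0, 2, 0]),
    ([3, 3, 3, 3, 3, 0, 2, 0, 2, 0, 2, 0, 2, 0, 2, 0, 2, 0, 2, 0], [], [3, 3, 3, 3, 3, 0, 2, 0, 2, 0, 2, 0, 2, 0, 2, 0, 2, 0, 2, 0])] (by decide +kernel) (rels := L6.rels) (by decide +kernel)) ⊥ (by simp [L6.subs]))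
  have k5 := extend k4 (L7.mem (derive hx one_sq k4 [([3, 0, 0, 2, 0, 0], [], [0, 0]),
    ([2, 2, 2, 2, 2, 2], [], [2, 2, 2, 2, 2, 2]),
    ([2, 0, 3, 1, 2, 0, 3, 1, 2, 0, 3, 1], [2, 0], [3, 0, 2, 0, 3, 0, 2, 0, 3, 0, 2, 0]),
    ([2, 2, 2, 0, 2, 2, 1, 2, 2, 2, 0, 2, 2, 1, 2, 2, 2, 0, 2, 2, 1], [], [2, 2, 2, 0, 2, 2, 0, 2, 2, 2, 0, 2, 2, 0, 2, 2, 2, 0, 2, 2, 0]),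
    ([2, 0, 2, 0, 2, 0, 2, 0, 2, 0, 2, 0, 2, 0, 2, 0], [], [2, 0, 2, 0, 2, 0, 2, 0, 2, 0, 2, 0, 2, 0, 2, 0]),
    ([2, 2, 2, 0, 2, 0, 2, 2, 2, 0, 2, 0, 2, 2, 2, 0, 2, 0, 2, 2, 2, 0, 2, 0], [], [2, 2, 2, 0, 2, 0, 2, 2, 2, 0, 2, 0, 2, 2, 2, 0, 2, 0, 2, 2, 2, 0, 2, 0]),
    ([3, 3, 0, 2, 0, 2, 0, 3, 3, 0, 2, 2, 1, 3, 1, 3, 1, 2, 2, 1], [], [3, 3, 0, 2, 0, 2, 0, 3, 3, 0, 2, 2, 0, 3, 0, 3, 0, 2, 2, 0]),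
    ([2, 0, 3, 1, 2, 0, 3, 1, 2, 0, 3, 1], [2, 0], [3, 0, 2, 0, 3, 0, 2, 0, 3, 0, 2, 0]),
    ([2, 0, 2, 0, 2, 0, 2, 0, 2, 0, 2, 0, 2, 0, 2, 0], [], [2, 0, 2, 0, 2, 0, 2, 0, 2, 0, 2, 0, 2, 0, 2, 0]),
    ([3, 0, 3, 3, 3, 3, 3, 0, 3, 0, 2, 0, 2, 2, 2, 2, 2, 0, 2, 0], [], [3, 0, 3, 3, 3, 3, 3, 0, 3, 0, 2, 0, 2, 2, 2, 2, 2, 0, 2, 0])] (by decide +kernel) (rels := L7.rels) (by decide +kernel)) ⊥ (by simp [L7.subs]))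
  have k6 := extend k5 (L8.mem (derive hx one_sq k5 [([3, 0, 0, 2, 0, 0], [], [0, 0]),
    ([2, 2, 2, 2, 2, 2], [], [2, 2, 2, 2, 2, 2]),
    ([2, 0, 3, 1, 2, 0, 3, 1, 2, 0, 3, 1], [2, 0], [3, 0, 2, 0, 3, 0, 2, 0, 3, 0, 2, 0]),
    ([2, 2, 2, 0, 2, 2, 1, 2, 2, 2, 0, 2, 2, 1, 2, 2, 2, 0, 2, 2, 1], [], [2, 2, 2, 0, 2, 2, 0, 2, 2, 2, 0, 2, 2, 0, 2, 2, 2, 0, 2, 2, 0]),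
    ([2, 0, 2, 0, 2, 0, 2, 0, 2, 0, 2, 0, 2, 0, 2, 0], [], [2, 0, 2, 0, 2, 0, 2, 0, 2, 0, 2, 0, 2, 0, 2, 0]),
    ([2, 2, 2, 0, 2, 0, 2, 2, 2, 0, 2, 0, 2, 2, 2, 0, 2, 0, 2, 2, 2, 0, 2, 0], [], [2, 2, 2, 0, 2, 0, 2, 2, 2, 0, 2, 0, 2, 2, 2, 0, 2, 0, 2, 2, 2, 0, 2, 0]),
    ([3, 3, 0, 2, 0, 2, 0, 3, 3, 0, 2, 2, 1, 3, 1, 3, 1, 2, 2, 1], [], [3, 3, 0, 2, 0, 2, 0, 3, 3, 0, 2, 2, 0, 3, 0, 3, 0, 2, 2, 0]),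
    ([2, 2, 2, 2, 2, 2], [], [2, 2, 2, 2, 2, 2]),
    ([2, 0, 3, 1, 2, 0, 3, 1, 2, 0, 3, 1], [2, 0], [3, 0, 2, 0, 3, 0, 2, 0, 3, 0, 2, 0]),
    ([3, 0, 2, 0, 3, 0, 2, 0, 2, 2, 2, 2, 2, 0, 2, 0], [], [3, 0, 2, 0, 3, 0, 2, 0, 2, 2, 2, 2, 2, 0, 2, 0]),
    ([2, 0, 2, 0, 2, 0, 2, 0, 2, 0, 2, 0, 2, 0, 2, 0], [], [2, 0, 2, 0, 2, 0, 2, 0, 2, 0, 2, 0, 2, 0, 2, 0]),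
    ([3, 3, 0, 2, 0, 2, 0, 3, 3, 0, 2, 2, 1, 3, 1, 3, 1, 2, 2, 1], [3, 3, 0, 2, 0, 2, 0], [3, 3, 0, 2, 2, 0, 3, 0, 3, 0, 2, 2, 0, 3, 3, 0, 2, 0, 2, 0]),
    ([3, 3, 3, 3, 3, 0, 2, 0, 2, 0, 2, 0, 2, 0, 2, 0, 2, 0, 2, 0], [], [3, 3, 3, 3, 3, 0, 2, 0, 2, 0, 2, 0, 2, 0, 2, 0, 2, 0, 2, 0]),
    ([3, 0, 3, 3, 3, 3, 3, 0, 3, 0, 2, 0, 2, 2, 2, 2, 2, 0, 2, 0], [], [3, 0, 3, 3, 3, 3, 3, 0, 3, 0, 2, 0, 2, 2, 2, 2, 2, 0, 2, 0]),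
    ([3, 3, 3, 0, 2, 2, 0, 2, 2, 2, 0, 2, 2, 0, 2, 2, 2, 0, 2, 2, 0], [], [3, 3, 3, 0, 2, 2, 0, 2, 2, 2, 0, 2, 2, 0, 2, 2, 2, 0, 2, 2, 0])] (by decide +kernel) (rels := L8.rels) (by decide +kernel)) ⊥ (by simp [L8.subs]))
  have k7 := extend k6 (L9.mem (derive hx one_sq k6 [([3, 0, 0, 2, 0, 0], [], [0, 0]),
    ([2, 2, 2, 2, 2, 2], [], [2, 2, 2, 2, 2, 2]),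
    ([2, 0, 3, 1, 2, 0, 3, 1, 2, 0, 3, 1], [2, 0], [3, 0, 2, 0, 3, 0, 2, 0, 3, 0, 2, 0]),
    ([2, 2, 2, 0, 2, 2, 1, 2, 2, 2, 0, 2, 2, 1, 2, 2, 2, 0, 2, 2, 1], [], [2, 2, 2, 0, 2, 2, 0, 2, 2, 2, 0, 2, 2, 0, 2, 2, 2, 0, 2, 2, 0]),
    ([2, 0, 2, 0, 2, 0, 2, 0, 2, 0, 2, 0, 2, 0, 2, 0], [], [2, 0, 2, 0, 2, 0, 2, 0, 2, 0, 2, 0, 2, 0, 2, 0]),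
    ([2, 2, 2, 0, 2, 0, 2, 2, 2, 0, 2, 0, 2, 2, 2, 0, 2, 0, 2, 2, 2, 0, 2, 0], [], [2, 2, 2, 0, 2, 0, 2, 2, 2, 0, 2, 0, 2, 2, 2, 0, 2, 0, 2, 2, 2, 0, 2, 0]),
    ([3, 3, 0, 2, 0, 2, 0, 3, 3, 0, 2, 2, 1, 3, 1, 3, 1, 2, 2, 1], [], [3, 3, 0, 2, 0, 2, 0, 3, 3, 0, 2, 2, 0, 3, 0, 3, 0, 2, 2, 0]),
    ([2, 2, 2, 2, 2, 2], [], [2, 2, 2, 2, 2, 2])] (by decide +kernel) (rels := L9.rels) (by decide +kernel)) ⊥ (by simp [L9.subs]))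
  have k8 := extend k7 (L10.mem (derive hx one_sq k7 [([3, 0, 0, 2, 0, 0], [], [0, 0]),
    ([2, 2, 2, 2, 2, 2], [], [2, 2, 2, 2, 2, 2]),
    ([2, 0, 3, 1, 2, 0, 3, 1, 2, 0, 3, 1], [2, 0], [3, 0, 2, 0, 3, 0, 2, 0, 3, 0, 2, 0]),
    ([2, 2, 2, 0, 2, 2, 1, 2, 2, 2, 0, 2, 2, 1, 2, 2, 2, 0, 2, 2, 1], [], [2, 2, 2, 0, 2, 2, 0, 2, 2, 2, 0, 2, 2, 0, 2, 2, 2, 0, 2, 2, 0]),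
    ([2, 0, 2, 0, 2, 0, 2, 0, 2, 0, 2, 0, 2, 0, 2, 0], [], [2, 0, 2, 0, 2, 0, 2, 0, 2, 0, 2, 0, 2, 0, 2, 0]),
    ([2, 2, 2, 0, 2, 0, 2, 2, 2, 0, 2, 0, 2, 2, 2, 0, 2, 0, 2, 2, 2, 0, 2, 0], [], [2, 2, 2, 0, 2, 0, 2, 2, 2, 0, 2, 0, 2, 2, 2, 0, 2, 0, 2, 2, 2, 0, 2, 0]),
    ([3, 3, 0, 2, 0, 2, 0, 3, 3, 0, 2, 2, 1, 3, 1, 3, 1, 2, 2, 1], [], [3, 3, 0, 2, 0, 2, 0, 3, 3, 0, 2, 2, 0, 3, 0, 3, 0, 2, 2, 0]),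
    ([2, 2, 2, 2, 2, 2], [], [2, 2, 2, 2, 2, 2]),
    ([2, 0, 3, 1, 2, 0, 3, 1, 2, 0, 3, 1], [2, 0], [3, 0, 2, 0, 3, 0, 2, 0, 3, 0, 2, 0]),
    ([3, 0, 2, 0, 3, 0, 2, 0, 2, 2, 2, 2, 2, 0, 2, 0], [], [3, 0, 2, 0, 3, 0, 2, 0, 2, 2, 2, 2, 2, 0, 2, 0]),
    ([3, 0, 3, 3, 3, 3, 3, 0, 3, 0, 2, 0, 2, 2, 2, 2, 2, 0, 2, 0], [], [3, 0, 3, 3, 3, 3, 3, 0, 3, 0, 2, 0, 2, 2, 2, 2, 2, 0, 2, 0]),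
    ([3, 3, 3, 0, 2, 2, 0, 3, 3, 3, 0, 2, 2, 0, 2, 2, 2, 0, 2, 2, 0], [], [3, 3, 3, 0, 2, 2, 0, 3, 3, 3, 0, 2, 2, 0, 2, 2, 2, 0, 2, 2, 0]),
    ([2, 2, 0, 3, 0, 2, 0, 3, 0, 2, 2, 0, 2, 0, 2, 0, 2, 0, 2, 0, 2, 0], [], [2, 2, 0, 3, 0, 2, 0, 3, 0, 2, 2, 0, 2, 0, 2, 0, 2, 0, 2, 0, 2, 0])] (by decide +kernel) (rels := L10.rels) (by decide +kernel)) ⊥ (by simp [L10.subs]))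
  have k9 := extend k8 (L11.mem (derive hx one_sq k8 [([3, 0, 0, 2, 0, 0], [], [0, 0]),
    ([2, 2, 2, 2, 2, 2], [], [2, 2, 2, 2, 2, 2]),
    ([2, 0, 3, 1, 2, 0, 3, 1, 2, 0, 3, 1], [2, 0], [3, 0, 2, 0, 3, 0, 2, 0, 3, 0, 2, 0]),
    ([2, 2, 2, 0, 2, 2, 1, 2, 2, 2, 0, 2, 2, 1, 2, 2, 2, 0, 2, 2, 1], [], [2, 2, 2, 0, 2, 2, 0, 2, 2, 2, 0, 2, 2, 0, 2, 2, 2, 0, 2, 2, 0]),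
    ([2, 0, 2, 0, 2, 0, 2, 0, 2, 0, 2, 0, 2, 0, 2, 0], [], [2, 0, 2, 0, 2, 0, 2, 0, 2, 0, 2, 0, 2, 0, 2, 0]),
    ([2, 2, 2, 0, 2, 0, 2, 2, 2, 0, 2, 0, 2, 2, 2, 0, 2, 0, 2, 2, 2, 0, 2, 0], [], [2, 2, 2, 0, 2, 0, 2, 2, 2, 0, 2, 0, 2, 2, 2, 0, 2, 0, 2, 2, 2, 0, 2, 0]),
    ([3, 3, 0, 2, 0, 2, 0, 3, 3, 0, 2, 2, 1, 3, 1, 3, 1, 2, 2, 1], [], [3, 3, 0, 2, 0, 2, 0, 3, 3, 0, 2, 2, 0, 3, 0, 3, 0, 2, 2, 0]),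
    ([2, 0, 3, 1, 2, 0, 3, 1, 2, 0, 3, 1], [2, 0], [3, 0, 2, 0, 3, 0, 2, 0, 3, 0, 2, 0]),
    ([3, 3, 0, 2, 0, 2, 0, 3, 3, 0, 2, 2, 1, 3, 1, 3, 1, 2, 2, 1], [3, 3, 0, 2, 0, 2, 0], [3, 3, 0, 2, 2, 0, 3, 0, 3, 0, 2, 2, 0, 3, 3, 0, 2, 0, 2, 0]),
    ([3, 3, 3, 3, 3, 0, 2, 0, 2, 0, 2, 0, 2, 0, 2, 0, 2, 0, 2, 0], [], [3, 3, 3, 3, 3, 0, 2, 0, 2, 0, 2, 0, 2, 0, 2, 0, 2, 0, 2, 0]),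
    ([3, 3, 3, 0, 2, 2, 0, 3, 3, 3, 0, 2, 2, 0, 2, 2, 2, 0, 2, 2, 0], [], [3, 3, 3, 0, 2, 2, 0, 3, 3, 3, 0, 2, 2, 0, 2, 2, 2, 0, 2, 2, 0]),
    ([2, 2, 0, 3, 0, 2, 0, 3, 0, 2, 2, 0, 2, 0, 2, 0, 2, 0, 2, 0, 2, 0], [], [2, 2, 0, 3, 0, 2, 0, 3, 0, 2, 2, 0, 2, 0, 2, 0, 2, 0, 2, 0, 2, 0]),
    ([3, 3, 0, 2, 2, 0, 3, 0, 3, 0, 2, 2, 0, 2, 2, 2, 2, 0, 2, 0, 2, 0], [], [3, 3, 0, 2, 2, 0, 3, 0, 3, 0, 2, 2, 0, 2, 2, 2, 2, 0, 2, 0, 2, 0])] (by decide +kernel) (rels := L11.rels) (by decide +kernel)) ⊥ (by simp [L11.subs]))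
  have k10 := extend k9 (L13.mem (derive hx one_sq k9 [([3, 0, 0, 2, 0, 0], [], [0, 0]),
    ([2, 2, 2, 2, 2, 2], [], [2, 2, 2, 2, 2, 2]),
    ([2, 0, 3, 1, 2, 0, 3, 1, 2, 0, 3, 1], [2, 0], [3, 0, 2, 0, 3, 0, 2, 0, 3, 0, 2, 0]),
    ([2, 2, 2, 0, 2, 2, 1, 2, 2, 2, 0, 2, 2, 1, 2, 2, 2, 0, 2, 2, 1], [], [2, 2, 2, 0, 2, 2, 0, 2, 2, 2, 0, 2, 2, 0, 2, 2, 2, 0, 2, 2, 0]),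
    ([2, 0, 2, 0, 2, 0, 2, 0, 2, 0, 2, 0, 2, 0, 2, 0], [], [2, 0, 2, 0, 2, 0, 2, 0, 2, 0, 2, 0, 2, 0, 2, 0]),
    ([2, 2, 2, 0, 2, 0, 2, 2, 2, 0, 2, 0, 2, 2, 2, 0, 2, 0, 2, 2, 2, 0, 2, 0], [], [2, 2, 2, 0, 2, 0, 2, 2, 2, 0, 2, 0, 2, 2, 2, 0, 2, 0, 2, 2, 2, 0, 2, 0]),
    ([3, 3, 0, 2, 0, 2, 0, 3, 3, 0, 2, 2, 1, 3, 1, 3, 1, 2, 2, 1], [], [3, 3, 0, 2, 0, 2, 0, 3, 3, 0, 2, 2, 0, 3, 0, 3, 0, 2, 2, 0])] (by decide +kernel) (rels := L13.rels) (by decide +kernel)) ⊥ (by simp [L13.subs]))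
  have k11 := extend k10 (L14.mem (derive hx one_sq k10 [([3, 0, 0, 2, 0, 0], [], [0, 0]),
    ([2, 2, 2, 2, 2, 2], [], [2, 2, 2, 2, 2, 2]),
    ([2, 0, 3, 1, 2, 0, 3, 1, 2, 0, 3, 1], [2, 0], [3, 0, 2, 0, 3, 0, 2, 0, 3, 0, 2, 0]),
    ([2, 2, 2, 0, 2, 2, 1, 2, 2, 2, 0, 2, 2, 1, 2, 2, 2, 0, 2, 2, 1], [], [2, 2, 2, 0, 2, 2, 0, 2, 2, 2, 0, 2, 2, 0, 2, 2, 2, 0, 2, 2, 0]),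
    ([2, 0, 2, 0, 2, 0, 2, 0, 2, 0, 2, 0, 2, 0, 2, 0], [], [2, 0, 2, 0, 2, 0, 2, 0, 2, 0, 2, 0, 2, 0, 2, 0]),
    ([2, 2, 2, 0, 2, 0, 2, 2, 2, 0, 2, 0, 2, 2, 2, 0, 2, 0, 2, 2, 2, 0, 2, 0], [], [2, 2, 2, 0, 2, 0, 2, 2, 2, 0, 2, 0, 2, 2, 2, 0, 2, 0, 2, 2, 2, 0, 2, 0]),
    ([3, 3, 0, 2, 0, 2, 0, 3, 3, 0, 2, 2, 1, 3, 1, 3, 1, 2, 2, 1], [], [3, 3, 0, 2, 0, 2, 0, 3, 3, 0, 2, 2, 0, 3, 0, 3, 0, 2, 2, 0]),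
    ([2, 2, 2, 2, 2, 2], [], [2, 2, 2, 2, 2, 2]),
    ([3, 0, 2, 0, 3, 0, 2, 0, 2, 2, 2, 2, 2, 0, 2, 0], [], [3, 0, 2, 0, 3, 0, 2, 0, 2, 2, 2, 2, 2, 0, 2, 0]),
    ([2, 0, 2, 0, 2, 0, 2, 0, 2, 0, 2, 0, 2, 0, 2, 0], [], [2, 0, 2, 0, 2, 0, 2, 0, 2, 0, 2, 0, 2, 0, 2, 0]),
    ([3, 3, 0, 2, 0, 2, 0, 3, 3, 0, 2, 2, 1, 3, 1, 3, 1, 2, 2, 1], [3, 3, 0, 2, 0, 2, 0], [3, 3, 0, 2, 2, 0, 3, 0, 3, 0, 2, 2, 0, 3, 3, 0, 2, 0, 2, 0]),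
    ([3, 3, 3, 3, 3, 0, 2, 0, 2, 0, 2, 0, 2, 0, 2, 0, 2, 0, 2, 0], [], [3, 3, 3, 3, 3, 0, 2, 0, 2, 0, 2, 0, 2, 0, 2, 0, 2, 0, 2, 0]),
    ([3, 0, 3, 3, 3, 3, 3, 0, 3, 0, 2, 0, 2, 2, 2, 2, 2, 0, 2, 0], [], [3, 0, 3, 3, 3, 3, 3, 0, 3, 0, 2, 0, 2, 2, 2, 2, 2, 0, 2, 0]),
    ([3, 3, 3, 0, 2, 2, 0, 2, 2, 2, 0, 2, 2, 0, 2, 2, 2, 0, 2, 2, 0], [], [3, 3, 3, 0, 2, 2, 0, 2, 2, 2, 0, 2, 2, 0, 2, 2, 2, 0, 2, 2, 0]),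
    ([3, 3, 3, 0, 2, 2, 0, 3, 3, 3, 0, 2, 2, 0, 2, 2, 2, 0, 2, 2, 0], [], [3, 3, 3, 0, 2, 2, 0, 3, 3, 3, 0, 2, 2, 0, 2, 2, 2, 0, 2, 2, 0]),
    ([3, 3, 0, 2, 0, 3, 0, 2, 0, 3, 0, 2, 2, 0, 3, 0, 2, 0, 3, 0, 2, 0], [], [3, 3, 0, 2, 0, 3, 0, 2, 0, 3, 0, 2, 2, 0, 3, 0, 2, 0, 3, 0, 2, 0]),
    ([3, 3, 3, 0, 3, 3, 3, 3, 0, 2, 2, 2, 0, 2, 2, 0, 2, 2, 2, 0, 2, 2, 0], [], [3, 3, 3, 0, 3, 3, 3, 3, 0, 2, 2, 2, 0, 2, 2, 0, 2, 2, 2, 0, 2, 2, 0])] (by decide +kernel) (rels := L14.rels) (by decide +kernel)) ⊥ (by simp [L14.subs]))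
  have k12 := extend k11 (L17.mem (derive hx one_sq k11 [([3, 0, 0, 2, 0, 0], [], [0, 0]),
    ([2, 2, 2, 2, 2, 2], [], [2, 2, 2, 2, 2, 2]),
    ([2, 0, 3, 1, 2, 0, 3, 1, 2, 0, 3, 1], [2, 0], [3, 0, 2, 0, 3, 0, 2, 0, 3, 0, 2, 0]),
    ([2, 2, 2, 0, 2, 2, 1, 2, 2, 2, 0, 2, 2, 1, 2, 2, 2, 0, 2, 2, 1], [], [2, 2, 2, 0, 2, 2, 0, 2, 2, 2, 0, 2, 2, 0, 2, 2, 2, 0, 2, 2, 0]),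
    ([2, 0, 2, 0, 2, 0, 2, 0, 2, 0, 2, 0, 2, 0, 2, 0], [], [2, 0, 2, 0, 2, 0, 2, 0, 2, 0, 2, 0, 2, 0, 2, 0]),
    ([2, 2, 2, 0, 2, 0, 2, 2, 2, 0, 2, 0, 2, 2, 2, 0, 2, 0, 2, 2, 2, 0, 2, 0], [], [2, 2, 2, 0, 2, 0, 2, 2, 2, 0, 2, 0, 2, 2, 2, 0, 2, 0, 2, 2, 2, 0, 2, 0]),
    ([3, 3, 0, 2, 0, 2, 0, 3, 3, 0, 2, 2, 1, 3, 1, 3, 1, 2, 2, 1], [], [3, 3, 0, 2, 0, 2, 0, 3, 3, 0, 2, 2, 0, 3, 0, 3, 0, 2, 2, 0]),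
    ([2, 2, 2, 2, 2, 2], [], [2, 2, 2, 2, 2, 2]),
    ([2, 0, 3, 1, 2, 0, 3, 1, 2, 0, 3, 1], [2, 0], [3, 0, 2, 0, 3, 0, 2, 0, 3, 0, 2, 0]),
    ([3, 3, 0, 2, 0, 2, 0, 3, 3, 0, 2, 2, 1, 3, 1, 3, 1, 2, 2, 1], [3, 3, 0, 2, 0, 2, 0], [3, 3, 0, 2, 2, 0, 3, 0, 3, 0, 2, 2, 0, 3, 3, 0, 2, 0, 2, 0]),
    ([3, 3, 3, 3, 3, 0, 2, 0, 2, 0, 2, 0, 2, 0, 2, 0, 2, 0, 2, 0], [], [3, 3, 3, 3, 3, 0, 2, 0, 2, 0, 2, 0, 2, 0, 2, 0, 2, 0, 2, 0]),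
    ([3, 0, 3, 3, 3, 3, 3, 0, 3, 0, 2, 0, 2, 2, 2, 2, 2, 0, 2, 0], [], [3, 0, 3, 3, 3, 3, 3, 0, 3, 0, 2, 0, 2, 2, 2, 2, 2, 0, 2, 0]),
    ([3, 3, 3, 0, 2, 2, 0, 2, 2, 2, 0, 2, 2, 0, 2, 2, 2, 0, 2, 2, 0], [], [3, 3, 3, 0, 2, 2, 0, 2, 2, 2, 0, 2, 2, 0, 2, 2, 2, 0, 2, 2, 0]),
    ([3, 3, 3, 0, 2, 2, 0, 3, 3, 3, 0, 2, 2, 0, 2, 2, 2, 0, 2, 2, 0], [], [3, 3, 3, 0, 2, 2, 0, 3, 3, 3, 0, 2, 2, 0, 2, 2, 2, 0, 2, 2, 0]),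
    ([2, 2, 0, 3, 0, 2, 0, 3, 0, 2, 2, 0, 2, 0, 2, 0, 2, 0, 2, 0, 2, 0], [], [2, 2, 0, 3, 0, 2, 0, 3, 0, 2, 2, 0, 2, 0, 2, 0, 2, 0, 2, 0, 2, 0]),
    ([2, 2, 2, 0, 3, 3, 3, 3, 0, 3, 3, 3, 0, 2, 2, 0, 2, 2, 2, 0, 2, 2, 0], [], [2, 2, 2, 0, 3, 3, 3, 3, 0, 3, 3, 3, 0, 2, 2, 0, 2, 2, 2, 0, 2, 2, 0])] (by decide +kernel) (rels := L17.rels) (by decide +kernel)) ⊥ (by simp [L17.subs]))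
  have k13 := extend k12 (L19.mem (derive hx one_sq k12 [([3, 0, 0, 2, 0, 0], [], [0, 0]),
    ([2, 2, 2, 2, 2, 2], [], [2, 2, 2, 2, 2, 2]),
    ([2, 0, 3, 1, 2, 0, 3, 1, 2, 0, 3, 1], [2, 0], [3, 0, 2, 0, 3, 0, 2, 0, 3, 0, 2, 0]),
    ([2, 2, 2, 0, 2, 2, 1, 2, 2, 2, 0, 2, 2, 1, 2, 2, 2, 0, 2, 2, 1], [], [2, 2, 2, 0, 2, 2, 0, 2, 2, 2, 0, 2, 2, 0, 2, 2, 2, 0, 2, 2, 0]),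
    ([2, 0, 2, 0, 2, 0, 2, 0, 2, 0, 2, 0, 2, 0, 2, 0], [], [2, 0, 2, 0, 2, 0, 2, 0, 2, 0, 2, 0, 2, 0, 2, 0]),
    ([2, 2, 2, 0, 2, 0, 2, 2, 2, 0, 2, 0, 2, 2, 2, 0, 2, 0, 2, 2, 2, 0, 2, 0], [], [2, 2, 2, 0, 2, 0, 2, 2, 2, 0, 2, 0, 2, 2, 2, 0, 2, 0, 2, 2, 2, 0, 2, 0]),
    ([3, 3, 0, 2, 0, 2, 0, 3, 3, 0, 2, 2, 1, 3, 1, 3, 1, 2, 2, 1], [], [3, 3, 0, 2, 0, 2, 0, 3, 3, 0, 2, 2, 0, 3, 0, 3, 0, 2, 2, 0])] (by decide +kernel) (rels := L19.rels) (by decide +kernel)) ⊥ (by simp [L19.subs]))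
  have k14 := extend k13 (L12.mem (derive hx one_sq k13 [([3, 0, 0, 2, 0, 0], [], [0, 0]),
    ([2, 2, 2, 2, 2, 2], [], [2, 2, 2, 2, 2, 2]),
    ([2, 0, 3, 1, 2, 0, 3, 1, 2, 0, 3, 1], [2, 0], [3, 0, 2, 0, 3, 0, 2, 0, 3, 0, 2, 0]),
    ([2, 2, 2, 0, 2, 2, 1, 2, 2, 2, 0, 2, 2, 1, 2, 2, 2, 0, 2, 2, 1], [], [2, 2, 2, 0, 2, 2, 0, 2, 2, 2, 0, 2, 2, 0, 2, 2, 2, 0, 2, 2, 0]),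
    ([2, 0, 2, 0, 2, 0, 2, 0, 2, 0, 2, 0, 2, 0, 2, 0], [], [2, 0, 2, 0, 2, 0, 2, 0, 2, 0, 2, 0, 2, 0, 2, 0]),
    ([2, 2, 2, 0, 2, 0, 2, 2, 2, 0, 2, 0, 2, 2, 2, 0, 2, 0, 2, 2, 2, 0, 2, 0], [], [2, 2, 2, 0, 2, 0, 2, 2, 2, 0, 2, 0, 2, 2, 2, 0, 2, 0, 2, 2, 2, 0, 2, 0]),
    ([3, 3, 0, 2, 0, 2, 0, 3, 3, 0, 2, 2, 1, 3, 1, 3, 1, 2, 2, 1], [], [3, 3, 0, 2, 0, 2, 0, 3, 3, 0, 2, 2, 0, 3, 0, 3, 0, 2, 2, 0]),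
    ([2, 2, 2, 2, 2, 2], [], [2, 2, 2, 2, 2, 2]),
    ([2, 0, 3, 1, 2, 0, 3, 1, 2, 0, 3, 1], [2, 0], [3, 0, 2, 0, 3, 0, 2, 0, 3, 0, 2, 0]),
    ([3, 3, 0, 2, 0, 2, 0, 3, 3, 0, 2, 2, 1, 3, 1, 3, 1, 2, 2, 1], [3, 3, 0, 2, 0, 2, 0], [3, 3, 0, 2, 2, 0, 3, 0, 3, 0, 2, 2, 0, 3, 3, 0, 2, 0, 2, 0])] (by decide +kernel) (rels := L12.rels) (by decide +kernel)) ⊥ (by simp [L12.subs]))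
  have k15 := extend k14 (L15.mem (derive hx one_sq k14 [([3, 0, 0, 2, 0, 0], [], [0, 0]),
    ([2, 2, 2, 2, 2, 2], [], [2, 2, 2, 2, 2, 2]),
    ([2, 0, 3, 1, 2, 0, 3, 1, 2, 0, 3, 1], [2, 0], [3, 0, 2, 0, 3, 0, 2, 0, 3, 0, 2, 0]),
    ([2, 2, 2, 0, 2, 2, 1, 2, 2, 2, 0, 2, 2, 1, 2, 2, 2, 0, 2, 2, 1], [], [2, 2, 2, 0, 2, 2, 0, 2, 2, 2, 0, 2, 2, 0, 2, 2, 2, 0, 2, 2, 0]),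
    ([2, 0, 2, 0, 2, 0, 2, 0, 2, 0, 2, 0, 2, 0, 2, 0], [], [2, 0, 2, 0, 2, 0, 2, 0, 2, 0, 2, 0, 2, 0, 2, 0]),
    ([2, 2, 2, 0, 2, 0, 2, 2, 2, 0, 2, 0, 2, 2, 2, 0, 2, 0, 2, 2, 2, 0, 2, 0], [], [2, 2, 2, 0, 2, 0, 2, 2, 2, 0, 2, 0, 2, 2, 2, 0, 2, 0, 2, 2, 2, 0, 2, 0]),
    ([3, 3, 0, 2, 0, 2, 0, 3, 3, 0, 2, 2, 1, 3, 1, 3, 1, 2, 2, 1], [], [3, 3, 0, 2, 0, 2, 0, 3, 3, 0, 2, 2, 0, 3, 0, 3, 0, 2, 2, 0]),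
    ([2, 0, 3, 1, 2, 0, 3, 1, 2, 0, 3, 1], [2, 0], [3, 0, 2, 0, 3, 0, 2, 0, 3, 0, 2, 0]),
    ([3, 0, 2, 0, 3, 0, 2, 0, 2, 2, 2, 2, 2, 0, 2, 0], [], [3, 0, 2, 0, 3, 0, 2, 0, 2, 2, 2, 2, 2, 0, 2, 0]),
    ([2, 0, 2, 0, 2, 0, 2, 0, 2, 0, 2, 0, 2, 0, 2, 0], [], [2, 0, 2, 0, 2, 0, 2, 0, 2, 0, 2, 0, 2, 0, 2, 0]),
    ([3, 3, 3, 3, 3, 0, 2, 0, 2, 0, 2, 0, 2, 0, 2, 0, 2, 0, 2, 0], [], [3, 3, 3, 3, 3, 0, 2, 0, 2, 0, 2, 0, 2, 0, 2, 0, 2, 0, 2, 0]),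
    ([3, 3, 3, 0, 2, 2, 0, 2, 2, 2, 0, 2, 2, 0, 2, 2, 2, 0, 2, 2, 0], [], [3, 3, 3, 0, 2, 2, 0, 2, 2, 2, 0, 2, 2, 0, 2, 2, 2, 0, 2, 2, 0]),
    ([3, 3, 3, 0, 2, 2, 0, 3, 3, 3, 0, 2, 2, 0, 2, 2, 2, 0, 2, 2, 0], [], [3, 3, 3, 0, 2, 2, 0, 3, 3, 3, 0, 2, 2, 0, 2, 2, 2, 0, 2, 2, 0])] (by decide +kernel) (rels := L15.rels) (by decide +kernel)) ⊥ (by simp [L15.subs]))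
  have k16 := extend k15 (L16.mem (derive hx one_sq k15 [([3, 0, 0, 2, 0, 0], [], [0, 0]),
    ([2, 2, 2, 2, 2, 2], [], [2, 2, 2, 2, 2, 2]),
    ([2, 0, 3, 1, 2, 0, 3, 1, 2, 0, 3, 1], [2, 0], [3, 0, 2, 0, 3, 0, 2, 0, 3, 0, 2, 0]),
    ([2, 2, 2, 0, 2, 2, 1, 2, 2, 2, 0, 2, 2, 1, 2, 2, 2, 0, 2, 2, 1], [], [2, 2, 2, 0, 2, 2, 0, 2, 2, 2, 0, 2, 2, 0, 2, 2, 2, 0, 2, 2, 0]),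
    ([2, 0, 2, 0, 2, 0, 2, 0, 2, 0, 2, 0, 2, 0, 2, 0], [], [2, 0, 2, 0, 2, 0, 2, 0, 2, 0, 2, 0, 2, 0, 2, 0]),
    ([2, 2, 2, 0, 2, 0, 2, 2, 2, 0, 2, 0, 2, 2, 2, 0, 2, 0, 2, 2, 2, 0, 2, 0], [], [2, 2, 2, 0, 2, 0, 2, 2, 2, 0, 2, 0, 2, 2, 2, 0, 2, 0, 2, 2, 2, 0, 2, 0]),
    ([3, 3, 0, 2, 0, 2, 0, 3, 3, 0, 2, 2, 1, 3, 1, 3, 1, 2, 2, 1], [], [3, 3, 0, 2, 0, 2, 0, 3, 3, 0, 2, 2, 0, 3, 0, 3, 0, 2, 2, 0]),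
    ([2, 2, 2, 2, 2, 2], [], [2, 2, 2, 2, 2, 2]),
    ([2, 0, 3, 1, 2, 0, 3, 1, 2, 0, 3, 1], [2, 0], [3, 0, 2, 0, 3, 0, 2, 0, 3, 0, 2, 0]),
    ([3, 0, 2, 0, 3, 0, 2, 0, 2, 2, 2, 2, 2, 0, 2, 0], [], [3, 0, 2, 0, 3, 0, 2, 0, 2, 2, 2, 2, 2, 0, 2, 0]),
    ([2, 0, 2, 0, 2, 0, 2, 0, 2, 0, 2, 0, 2, 0, 2, 0], [], [2, 0, 2, 0, 2, 0, 2, 0, 2, 0, 2, 0, 2, 0, 2, 0]),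
    ([3, 3, 0, 2, 0, 2, 0, 3, 3, 0, 2, 2, 1, 3, 1, 3, 1, 2, 2, 1], [3, 3, 0, 2, 0, 2, 0], [3, 3, 0, 2, 2, 0, 3, 0, 3, 0, 2, 2, 0, 3, 3, 0, 2, 0, 2, 0]),
    ([3, 3, 3, 3, 3, 0, 2, 0, 2, 0, 2, 0, 2, 0, 2, 0, 2, 0, 2, 0], [], [3, 3, 3, 3, 3, 0, 2, 0, 2, 0, 2, 0, 2, 0, 2, 0, 2, 0, 2, 0]),
    ([3, 0, 3, 3, 3, 3, 3, 0, 3, 0, 2, 0, 2, 2, 2, 2, 2, 0, 2, 0], [], [3, 0, 3, 3, 3, 3, 3, 0, 3, 0, 2, 0, 2, 2, 2, 2, 2, 0, 2, 0]),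
    ([3, 3, 3, 0, 2, 2, 0, 2, 2, 2, 0, 2, 2, 0, 2, 2, 2, 0, 2, 2, 0], [], [3, 3, 3, 0, 2, 2, 0, 2, 2, 2, 0, 2, 2, 0, 2, 2, 2, 0, 2, 2, 0]),
    ([3, 3, 3, 0, 2, 2, 0, 3, 3, 3, 0, 2, 2, 0, 2, 2, 2, 0, 2, 2, 0], [], [3, 3, 3, 0, 2, 2, 0, 3, 3, 3, 0, 2, 2, 0, 2, 2, 2, 0, 2, 2, 0]),
    ([2, 2, 0, 3, 0, 2, 0, 3, 0, 2, 2, 0, 2, 0, 2, 0, 2, 0, 2, 0, 2, 0], [], [2, 2, 0, 3, 0, 2, 0, 3, 0, 2, 2, 0, 2, 0, 2, 0, 2, 0, 2, 0, 2, 0]),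
    ([3, 3, 0, 2, 2, 0, 3, 0, 3, 0, 2, 2, 0, 2, 2, 2, 2, 0, 2, 0, 2, 0], [], [3, 3, 0, 2, 2, 0, 3, 0, 3, 0, 2, 2, 0, 2, 2, 2, 2, 0, 2, 0, 2, 0]),
    ([3, 3, 0, 2, 0, 3, 0, 2, 0, 3, 0, 2, 2, 0, 3, 0, 2, 0, 3, 0, 2, 0], [], [3, 3, 0, 2, 0, 3, 0, 2, 0, 3, 0, 2, 2, 0, 3, 0, 2, 0, 3, 0, 2, 0]),
    ([2, 2, 2, 2, 0, 2, 2, 0, 3, 0, 3, 0, 2, 2, 0, 3, 3, 0, 2, 0, 2, 0], [], [2, 2, 2, 2, 0, 2, 2, 0, 3, 0, 3, 0, 2, 2, 0, 3, 3, 0, 2, 0, 2, 0]),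
    ([3, 3, 3, 0, 3, 3, 3, 3, 0, 2, 2, 2, 0, 2, 2, 0, 2, 2, 2, 0, 2, 2, 0], [], [3, 3, 3, 0, 3, 3, 3, 3, 0, 2, 2, 2, 0, 2, 2, 0, 2, 2, 2, 0, 2, 2, 0]),
    ([2, 2, 2, 0, 3, 3, 3, 3, 0, 3, 3, 3, 0, 2, 2, 0, 2, 2, 2, 0, 2, 2, 0], [], [2, 2, 2, 0, 3, 3, 3, 3, 0, 3, 3, 3, 0, 2, 2, 0, 2, 2, 2, 0, 2, 2, 0]),
    ([2, 2, 2, 0, 3, 3, 3, 3, 0, 3, 3, 3, 0, 2, 2, 0, 3, 3, 3, 0, 2, 2, 0], [], [2, 2, 2, 0, 3, 3, 3, 3, 0, 3, 3, 3, 0, 2, 2, 0, 3, 3, 3, 0, 2, 2, 0])] (by decide +kernel) (rels := L16.rels) (by decide +kernel)) ⊥ (by simp [L16.subs]))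
  have k17 := extend k16 (L18.mem (derive hx one_sq k16 [([3, 0, 0, 2, 0, 0], [], [0, 0]),
    ([2, 2, 2, 2, 2, 2], [], [2, 2, 2, 2, 2, 2]),
    ([2, 0, 3, 1, 2, 0, 3, 1, 2, 0, 3, 1], [2, 0], [3, 0, 2, 0, 3, 0, 2, 0, 3, 0, 2, 0]),
    ([2, 2, 2, 0, 2, 2, 1, 2, 2, 2, 0, 2, 2, 1, 2, 2, 2, 0, 2, 2, 1], [], [2, 2, 2, 0, 2, 2, 0, 2, 2, 2, 0, 2, 2, 0, 2, 2, 2, 0, 2, 2, 0]),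
    ([2, 0, 2, 0, 2, 0, 2, 0, 2, 0, 2, 0, 2, 0, 2, 0], [], [2, 0, 2, 0, 2, 0, 2, 0, 2, 0, 2, 0, 2, 0, 2, 0]),
    ([2, 2, 2, 0, 2, 0, 2, 2, 2, 0, 2, 0, 2, 2, 2, 0, 2, 0, 2, 2, 2, 0, 2, 0], [], [2, 2, 2, 0, 2, 0, 2, 2, 2, 0, 2, 0, 2, 2, 2, 0, 2, 0, 2, 2, 2, 0, 2, 0]),
    ([3, 3, 0, 2, 0, 2, 0, 3, 3, 0, 2, 2, 1, 3, 1, 3, 1, 2, 2, 1], [], [3, 3, 0, 2, 0, 2, 0, 3, 3, 0, 2, 2, 0, 3, 0, 3, 0, 2, 2, 0]),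
    ([2, 2, 2, 2, 2, 2], [], [2, 2, 2, 2, 2, 2]),
    ([2, 0, 3, 1, 2, 0, 3, 1, 2, 0, 3, 1], [2, 0], [3, 0, 2, 0, 3, 0, 2, 0, 3, 0, 2, 0]),
    ([3, 0, 2, 0, 3, 0, 2, 0, 2, 2, 2, 2, 2, 0, 2, 0], [], [3, 0, 2, 0, 3, 0, 2, 0, 2, 2, 2, 2, 2, 0, 2, 0]),
    ([2, 0, 2, 0, 2, 0, 2, 0, 2, 0, 2, 0, 2, 0, 2, 0], [], [2, 0, 2, 0, 2, 0, 2, 0, 2, 0, 2, 0, 2, 0, 2, 0]),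
    ([3, 3, 0, 2, 0, 2, 0, 3, 3, 0, 2, 2, 1, 3, 1, 3, 1, 2, 2, 1], [3, 3, 0, 2, 0, 2, 0], [3, 3, 0, 2, 2, 0, 3, 0, 3, 0, 2, 2, 0, 3, 3, 0, 2, 0, 2, 0]),
    ([3, 3, 3, 3, 3, 0, 2, 0, 2, 0, 2, 0, 2, 0, 2, 0, 2, 0, 2, 0], [], [3, 3, 3, 3, 3, 0, 2, 0, 2, 0, 2, 0, 2, 0, 2, 0, 2, 0, 2, 0]),
    ([3, 0, 3, 3, 3, 3, 3, 0, 3, 0, 2, 0, 2, 2, 2, 2, 2, 0, 2, 0], [], [3, 0, 3, 3, 3, 3, 3, 0, 3, 0, 2, 0, 2, 2, 2, 2, 2, 0, 2, 0]),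
    ([3, 3, 3, 0, 2, 2, 0, 2, 2, 2, 0, 2, 2, 0, 2, 2, 2, 0, 2, 2, 0], [], [3, 3, 3, 0, 2, 2, 0, 2, 2, 2, 0, 2, 2, 0, 2, 2, 2, 0, 2, 2, 0]),
    ([3, 3, 3, 0, 2, 2, 0, 3, 3, 3, 0, 2, 2, 0, 2, 2, 2, 0, 2, 2, 0], [], [3, 3, 3, 0, 2, 2, 0, 3, 3, 3, 0, 2, 2, 0, 2, 2, 2, 0, 2, 2, 0]),
    ([2, 2, 0, 3, 0, 2, 0, 3, 0, 2, 2, 0, 2, 0, 2, 0, 2, 0, 2, 0, 2, 0], [], [2, 2, 0, 3, 0, 2, 0, 3, 0, 2, 2, 0, 2, 0, 2, 0, 2, 0, 2, 0, 2, 0]),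
    ([3, 3, 0, 2, 2, 0, 3, 0, 3, 0, 2, 2, 0, 2, 2, 2, 2, 0, 2, 0, 2, 0], [], [3, 3, 0, 2, 2, 0, 3, 0, 3, 0, 2, 2, 0, 2, 2, 2, 2, 0, 2, 0, 2, 0]),
    ([3, 3, 0, 2, 0, 3, 0, 2, 0, 3, 0, 2, 2, 0, 3, 0, 2, 0, 3, 0, 2, 0], [], [3, 3, 0, 2, 0, 3, 0, 2, 0, 3, 0, 2, 2, 0, 3, 0, 2, 0, 3, 0, 2, 0]),
    ([2, 2, 2, 2, 0, 2, 2, 0, 3, 0, 3, 0, 2, 2, 0, 3, 3, 0, 2, 0, 2, 0], [], [2, 2, 2, 2, 0, 2, 2, 0, 3, 0, 3, 0, 2, 2, 0, 3, 3, 0, 2, 0, 2, 0]),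
    ([3, 3, 3, 0, 3, 3, 3, 3, 0, 2, 2, 2, 0, 2, 2, 0, 2, 2, 2, 0, 2, 2, 0], [], [3, 3, 3, 0, 3, 3, 3, 3, 0, 2, 2, 2, 0, 2, 2, 0, 2, 2, 2, 0, 2, 2, 0]),
    ([2, 2, 2, 0, 3, 3, 3, 3, 0, 3, 3, 3, 0, 2, 2, 0, 2, 2, 2, 0, 2, 2, 0], [], [2, 2, 2, 0, 3, 3, 3, 3, 0, 3, 3, 3, 0, 2, 2, 0, 2, 2, 2, 0, 2, 2, 0]),
    ([2, 2, 2, 0, 3, 3, 3, 3, 0, 3, 3, 3, 0, 2, 2, 0, 3, 3, 3, 0, 2, 2, 0], [], [2, 2, 2, 0, 3, 3, 3, 3, 0, 3, 3, 3, 0, 2, 2, 0, 3, 3, 3, 0, 2, 2, 0]),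
    ([3, 3, 3, 0, 2, 2, 0, 3, 3, 3, 0, 3, 3, 3, 3, 0, 2, 2, 2, 0, 2, 2, 0], [], [3, 3, 3, 0, 2, 2, 0, 3, 3, 3, 0, 3, 3, 3, 3, 0, 2, 2, 2, 0, 2, 2, 0]),
    ([3, 3, 3, 0, 2, 0, 3, 3, 3, 0, 2, 0, 2, 2, 2, 0, 2, 0, 2, 2, 2, 0, 2, 0], [], [3, 3, 3, 0, 2, 0, 3, 3, 3, 0, 2, 0, 2, 2, 2, 0, 2, 0, 2, 2, 2, 0, 2, 0])] (by decide +kernel) (rels := L18.rels) (by decide +kernel)) ⊥ (by simp [L18.subs]))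
  have k18 := extend k17 (L20.mem (derive hx one_sq k17 [([3, 0, 0, 2, 0, 0], [], [0, 0]),
    ([2, 2, 2, 2, 2, 2], [], [2, 2, 2, 2, 2, 2]),
    ([2, 0, 3, 1, 2, 0, 3, 1, 2, 0, 3, 1], [2, 0], [3, 0, 2, 0, 3, 0, 2, 0, 3, 0, 2, 0]),
    ([2, 2, 2, 0, 2, 2, 1, 2, 2, 2, 0, 2, 2, 1, 2, 2, 2, 0, 2, 2, 1], [], [2, 2, 2, 0, 2, 2, 0, 2, 2, 2, 0, 2, 2, 0, 2, 2, 2, 0, 2, 2, 0]),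
    ([2, 0, 2, 0, 2, 0, 2, 0, 2, 0, 2, 0, 2, 0, 2, 0], [], [2, 0, 2, 0, 2, 0, 2, 0, 2, 0, 2, 0, 2, 0, 2, 0]),
    ([2, 2, 2, 0, 2, 0, 2, 2, 2, 0, 2, 0, 2, 2, 2, 0, 2, 0, 2, 2, 2, 0, 2, 0], [], [2, 2, 2, 0, 2, 0, 2, 2, 2, 0, 2, 0, 2, 2, 2, 0, 2, 0, 2, 2, 2, 0, 2, 0]),
    ([3, 3, 0, 2, 0, 2, 0, 3, 3, 0, 2, 2, 1, 3, 1, 3, 1, 2, 2, 1], [], [3, 3, 0, 2, 0, 2, 0, 3, 3, 0, 2, 2, 0, 3, 0, 3, 0, 2, 2, 0]),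
    ([2, 2, 2, 2, 2, 2], [], [2, 2, 2, 2, 2, 2]),
    ([3, 3, 0, 2, 0, 2, 0, 3, 3, 0, 2, 2, 1, 3, 1, 3, 1, 2, 2, 1], [3, 3, 0, 2, 0, 2, 0], [3, 3, 0, 2, 2, 0, 3, 0, 3, 0, 2, 2, 0, 3, 3, 0, 2, 0, 2, 0]),
    ([3, 0, 3, 3, 3, 3, 3, 0, 3, 0, 2, 0, 2, 2, 2, 2, 2, 0, 2, 0], [], [3, 0, 3, 3, 3, 3, 3, 0, 3, 0, 2, 0, 2, 2, 2, 2, 2, 0, 2, 0]),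
    ([2, 2, 0, 3, 0, 2, 0, 3, 0, 2, 2, 0, 2, 0, 2, 0, 2, 0, 2, 0, 2, 0], [], [2, 2, 0, 3, 0, 2, 0, 3, 0, 2, 2, 0, 2, 0, 2, 0, 2, 0, 2, 0, 2, 0]),
    ([3, 3, 0, 2, 2, 0, 3, 0, 3, 0, 2, 2, 0, 2, 2, 2, 2, 0, 2, 0, 2, 0], [], [3, 3, 0, 2, 2, 0, 3, 0, 3, 0, 2, 2, 0, 2, 2, 2, 2, 0, 2, 0, 2, 0]),
    ([2, 2, 2, 2, 0, 2, 2, 0, 3, 0, 3, 0, 2, 2, 0, 3, 3, 0, 2, 0, 2, 0], [], [2, 2, 2, 2, 0, 2, 2, 0, 3, 0, 3, 0, 2, 2, 0, 3, 3, 0, 2, 0, 2, 0]),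
    ([2, 2, 2, 0, 3, 3, 3, 3, 0, 3, 3, 3, 0, 2, 2, 0, 3, 3, 3, 0, 2, 2, 0], [], [2, 2, 2, 0, 3, 3, 3, 3, 0, 3, 3, 3, 0, 2, 2, 0, 3, 3, 3, 0, 2, 2, 0]),
    ([3, 3, 3, 3, 3, 0, 2, 0, 2, 0, 2, 0, 3, 3, 3, 3, 3, 0, 2, 0, 2, 0, 2, 0], [], [3, 3, 3, 3, 3, 0, 2, 0, 2, 0, 2, 0, 3, 3, 3, 3, 3, 0, 2, 0, 2, 0, 2, 0])] (by decide +kernel) (rels := L20.rels) (by decide +kernel)) ⊥ (by simp [L20.subs]))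
  have k19 := extend k18 (L21.mem (derive hx one_sq k18 [([3, 0, 0, 2, 0, 0], [], [0, 0]),
    ([2, 2, 2, 2, 2, 2], [], [2, 2, 2, 2, 2, 2]),
    ([2, 0, 3, 1, 2, 0, 3, 1, 2, 0, 3, 1], [2, 0], [3, 0, 2, 0, 3, 0, 2, 0, 3, 0, 2, 0]),
    ([2, 2, 2, 0, 2, 2, 1, 2, 2, 2, 0, 2, 2, 1, 2, 2, 2, 0, 2, 2, 1], [], [2, 2, 2, 0, 2, 2, 0, 2, 2, 2, 0, 2, 2, 0, 2, 2, 2, 0, 2, 2, 0]),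
    ([2, 0, 2, 0, 2, 0, 2, 0, 2, 0, 2, 0, 2, 0, 2, 0], [], [2, 0, 2, 0, 2, 0, 2, 0, 2, 0, 2, 0, 2, 0, 2, 0]),
    ([2, 2, 2, 0, 2, 0, 2, 2, 2, 0, 2, 0, 2, 2, 2, 0, 2, 0, 2, 2, 2, 0, 2, 0], [], [2, 2, 2, 0, 2, 0, 2, 2, 2, 0, 2, 0, 2, 2, 2, 0, 2, 0, 2, 2, 2, 0, 2, 0]),
    ([3, 3, 0, 2, 0, 2, 0, 3, 3, 0, 2, 2, 1, 3, 1, 3, 1, 2, 2, 1], [], [3, 3, 0, 2, 0, 2, 0, 3, 3, 0, 2, 2, 0, 3, 0, 3, 0, 2, 2, 0]),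
    ([2, 2, 2, 2, 2, 2], [], [2, 2, 2, 2, 2, 2]),
    ([3, 3, 3, 3, 3, 0, 2, 0, 2, 0, 2, 0, 2, 0, 2, 0, 2, 0, 2, 0], [], [3, 3, 3, 3, 3, 0, 2, 0, 2, 0, 2, 0, 2, 0, 2, 0, 2, 0, 2, 0]),
    ([3, 3, 3, 0, 2, 2, 0, 3, 3, 3, 0, 2, 2, 0, 2, 2, 2, 0, 2, 2, 0], [], [3, 3, 3, 0, 2, 2, 0, 3, 3, 3, 0, 2, 2, 0, 2, 2, 2, 0, 2, 2, 0]),
    ([3, 3, 0, 2, 0, 3, 0, 2, 0, 3, 0, 2, 2, 0, 3, 0, 2, 0, 3, 0, 2, 0], [], [3, 3, 0, 2, 0, 3, 0, 2, 0, 3, 0, 2, 2, 0, 3, 0, 2, 0, 3, 0, 2, 0]),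
    ([2, 2, 2, 0, 3, 3, 3, 3, 0, 3, 3, 3, 0, 2, 2, 0, 2, 2, 2, 0, 2, 2, 0], [], [2, 2, 2, 0, 3, 3, 3, 3, 0, 3, 3, 3, 0, 2, 2, 0, 2, 2, 2, 0, 2, 2, 0]),
    ([3, 3, 3, 0, 2, 0, 3, 3, 3, 0, 2, 0, 2, 2, 2, 0, 2, 0, 2, 2, 2, 0, 2, 0], [], [3, 3, 3, 0, 2, 0, 3, 3, 3, 0, 2, 0, 2, 2, 2, 0, 2, 0, 2, 2, 2, 0, 2, 0]),
    ([3, 3, 0, 3, 3, 3, 3, 0, 3, 0, 3, 0, 2, 2, 0, 2, 2, 2, 2, 0, 2, 0, 2, 0], [], [3, 3, 0, 3, 3, 3, 3, 0, 3, 0, 3, 0, 2, 2, 0, 2, 2, 2, 2, 0, 2, 0, 2, 0])] (by decide +kernel) (rels := L21.rels) (by decide +kernel)) ⊥ (by simp [L21.subs]))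
  have k20 := extend k19 (Xa.mem (derive hx one_sq k19 [([3, 0, 0, 2, 0, 0], [], [0, 0]),
    ([2, 2, 2, 2, 2, 2], [], [2, 2, 2, 2, 2, 2]),
    ([2, 0, 3, 1, 2, 0, 3, 1, 2, 0, 3, 1], [2, 0], [3, 0, 2, 0, 3, 0, 2, 0, 3, 0, 2, 0]),
    ([2, 2, 2, 0, 2, 2, 1, 2, 2, 2, 0, 2, 2, 1, 2, 2, 2, 0, 2, 2, 1], [], [2, 2, 2, 0, 2, 2, 0, 2, 2, 2, 0, 2, 2, 0, 2, 2, 2, 0, 2, 2, 0]),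
    ([2, 0, 2, 0, 2, 0, 2, 0, 2, 0, 2, 0, 2, 0, 2, 0], [], [2, 0, 2, 0, 2, 0, 2, 0, 2, 0, 2, 0, 2, 0, 2, 0]),
    ([2, 2, 2, 0, 2, 0, 2, 2, 2, 0, 2, 0, 2, 2, 2, 0, 2, 0, 2, 2, 2, 0, 2, 0], [], [2, 2, 2, 0, 2, 0, 2, 2, 2, 0, 2, 0, 2, 2, 2, 0, 2, 0, 2, 2, 2, 0, 2, 0]),
    ([3, 3, 0, 2, 0, 2, 0, 3, 3, 0, 2, 2, 1, 3, 1, 3, 1, 2, 2, 1], [], [3, 3, 0, 2, 0, 2, 0, 3, 3, 0, 2, 2, 0, 3, 0, 3, 0, 2, 2, 0]),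
    ([3, 0, 2, 0, 3, 0, 2, 0, 2, 2, 2, 2, 2, 0, 2, 0], [], [3, 0, 2, 0, 3, 0, 2, 0, 2, 2, 2, 2, 2, 0, 2, 0]),
    ([2, 0, 2, 0, 2, 0, 2, 0, 2, 0, 2, 0, 2, 0, 2, 0], [], [2, 0, 2, 0, 2, 0, 2, 0, 2, 0, 2, 0, 2, 0, 2, 0]),
    ([3, 3, 3, 0, 2, 0, 3, 3, 3, 0, 2, 0, 2, 2, 2, 0, 2, 0, 2, 2, 2, 0, 2, 0], [], [3, 3, 3, 0, 2, 0, 3, 3, 3, 0, 2, 0, 2, 2, 2, 0, 2, 0, 2, 2, 2, 0, 2, 0]),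
    ([3, 3, 3, 0, 2, 0, 2, 2, 2, 0, 2, 0, 2, 2, 2, 0, 2, 0, 2, 2, 2, 0, 2, 0], [], [3, 3, 3, 0, 2, 0, 2, 2, 2, 0, 2, 0, 2, 2, 2, 0, 2, 0, 2, 2, 2, 0, 2, 0]),
    ([3, 3, 3, 0, 2, 0, 3, 3, 3, 0, 2, 0, 3, 3, 3, 0, 2, 0, 2, 2, 2, 0, 2, 0], [], [3, 3, 3, 0, 2, 0, 3, 3, 3, 0, 2, 0, 3, 3, 3, 0, 2, 0, 2, 2, 2, 0, 2, 0])] (by decide +kernel) (rels := Xa.rels) (by decide +kernel)) ⊥ (by simp [Xa.subs]))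
  have k21 := extend k20 (L22.mem (derive hx one_sq k20 [([3, 0, 0, 2, 0, 0], [], [0, 0]),
    ([2, 2, 2, 2, 2, 2], [], [2, 2, 2, 2, 2, 2]),
    ([2, 0, 3, 1, 2, 0, 3, 1, 2, 0, 3, 1], [2, 0], [3, 0, 2, 0, 3, 0, 2, 0, 3, 0, 2, 0]),
    ([2, 2, 2, 0, 2, 2, 1, 2, 2, 2, 0, 2, 2, 1, 2, 2, 2, 0, 2, 2, 1], [], [2, 2, 2, 0, 2, 2, 0, 2, 2, 2, 0, 2, 2, 0, 2, 2, 2, 0, 2, 2, 0]),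
    ([2, 0, 2, 0, 2, 0, 2, 0, 2, 0, 2, 0, 2, 0, 2, 0], [], [2, 0, 2, 0, 2, 0, 2, 0, 2, 0, 2, 0, 2, 0, 2, 0]),
    ([2, 2, 2, 0, 2, 0, 2, 2, 2, 0, 2, 0, 2, 2, 2, 0, 2, 0, 2, 2, 2, 0, 2, 0], [], [2, 2, 2, 0, 2, 0, 2, 2, 2, 0, 2, 0, 2, 2, 2, 0, 2, 0, 2, 2, 2, 0, 2, 0]),
    ([3, 3, 0, 2, 0, 2, 0, 3, 3, 0, 2, 2, 1, 3, 1, 3, 1, 2, 2, 1], [], [3, 3, 0, 2, 0, 2, 0, 3, 3, 0, 2, 2, 0, 3, 0, 3, 0, 2, 2, 0]),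
    ([2, 2, 2, 2, 2, 2], [], [2, 2, 2, 2, 2, 2]),
    ([3, 0, 2, 0, 3, 0, 2, 0, 2, 2, 2, 2, 2, 0, 2, 0], [], [3, 0, 2, 0, 3, 0, 2, 0, 2, 2, 2, 2, 2, 0, 2, 0]),
    ([2, 0, 2, 0, 2, 0, 2, 0, 2, 0, 2, 0, 2, 0, 2, 0], [], [2, 0, 2, 0, 2, 0, 2, 0, 2, 0, 2, 0, 2, 0, 2, 0]),
    ([3, 3, 3, 0, 2, 0, 2, 2, 2, 0, 2, 0, 2, 2, 2, 0, 2, 0, 2, 2, 2, 0, 2, 0], [], [3, 3, 3, 0, 2, 0, 2, 2, 2, 0, 2, 0, 2, 2, 2, 0, 2, 0, 2, 2, 2, 0, 2, 0])] (by decide +kernel) (rels := L22.rels) (by decide +kernel)) ⊥ (by simp [L22.subs]))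
  have k22 := extend k21 (L23.mem (derive hx one_sq k21 [([3, 0, 0, 2, 0, 0], [], [0, 0]),
    ([2, 2, 2, 2, 2, 2], [], [2, 2, 2, 2, 2, 2]),
    ([2, 0, 3, 1, 2, 0, 3, 1, 2, 0, 3, 1], [2, 0], [3, 0, 2, 0, 3, 0, 2, 0, 3, 0, 2, 0]),
    ([2, 2, 2, 0, 2, 2, 1, 2, 2, 2, 0, 2, 2, 1, 2, 2, 2, 0, 2, 2, 1], [], [2, 2, 2, 0, 2, 2, 0, 2, 2, 2, 0, 2, 2, 0, 2, 2, 2, 0, 2, 2, 0]),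
    ([2, 0, 2, 0, 2, 0, 2, 0, 2, 0, 2, 0, 2, 0, 2, 0], [], [2, 0, 2, 0, 2, 0, 2, 0, 2, 0, 2, 0, 2, 0, 2, 0]),
    ([2, 2, 2, 0, 2, 0, 2, 2, 2, 0, 2, 0, 2, 2, 2, 0, 2, 0, 2, 2, 2, 0, 2, 0], [], [2, 2, 2, 0, 2, 0, 2, 2, 2, 0, 2, 0, 2, 2, 2, 0, 2, 0, 2, 2, 2, 0, 2, 0]),
    ([3, 3, 0, 2, 0, 2, 0, 3, 3, 0, 2, 2, 1, 3, 1, 3, 1, 2, 2, 1], [], [3, 3, 0, 2, 0, 2, 0, 3, 3, 0, 2, 2, 0, 3, 0, 3, 0, 2, 2, 0]),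
    ([2, 2, 2, 2, 2, 2], [], [2, 2, 2, 2, 2, 2]),
    ([2, 0, 3, 1, 2, 0, 3, 1, 2, 0, 3, 1], [2, 0], [3, 0, 2, 0, 3, 0, 2, 0, 3, 0, 2, 0]),
    ([3, 0, 2, 0, 3, 0, 2, 0, 2, 2, 2, 2, 2, 0, 2, 0], [], [3, 0, 2, 0, 3, 0, 2, 0, 2, 2, 2, 2, 2, 0, 2, 0]),
    ([2, 0, 2, 0, 2, 0, 2, 0, 2, 0, 2, 0, 2, 0, 2, 0], [], [2, 0, 2, 0, 2, 0, 2, 0, 2, 0, 2, 0, 2, 0, 2, 0]),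
    ([3, 3, 0, 2, 0, 2, 0, 3, 3, 0, 2, 2, 1, 3, 1, 3, 1, 2, 2, 1], [3, 3, 0, 2, 0, 2, 0], [3, 3, 0, 2, 2, 0, 3, 0, 3, 0, 2, 2, 0, 3, 3, 0, 2, 0, 2, 0]),
    ([3, 3, 3, 3, 3, 0, 2, 0, 2, 0, 2, 0, 2, 0, 2, 0, 2, 0, 2, 0], [], [3, 3, 3, 3, 3, 0, 2, 0, 2, 0, 2, 0, 2, 0, 2, 0, 2, 0, 2, 0]),
    ([3, 0, 3, 3, 3, 3, 3, 0, 3, 0, 2, 0, 2, 2, 2, 2, 2, 0, 2, 0], [], [3, 0, 3, 3, 3, 3, 3, 0, 3, 0, 2, 0, 2, 2, 2, 2, 2, 0, 2, 0]),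
    ([3, 3, 0, 2, 0, 3, 0, 2, 0, 3, 0, 2, 2, 0, 3, 0, 2, 0, 3, 0, 2, 0], [], [3, 3, 0, 2, 0, 3, 0, 2, 0, 3, 0, 2, 2, 0, 3, 0, 2, 0, 3, 0, 2, 0]),
    ([2, 2, 2, 2, 0, 2, 2, 0, 3, 0, 3, 0, 2, 2, 0, 3, 3, 0, 2, 0, 2, 0], [], [2, 2, 2, 2, 0, 2, 2, 0, 3, 0, 3, 0, 2, 2, 0, 3, 3, 0, 2, 0, 2, 0]),
    ([3, 3, 3, 0, 3, 3, 3, 3, 0, 2, 2, 2, 0, 2, 2, 0, 2, 2, 2, 0, 2, 2, 0], [], [3, 3, 3, 0, 3, 3, 3, 3, 0, 2, 2, 2, 0, 2, 2, 0, 2, 2, 2, 0, 2, 2, 0]),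
    ([2, 2, 2, 0, 3, 3, 3, 3, 0, 3, 3, 3, 0, 2, 2, 0, 2, 2, 2, 0, 2, 2, 0], [], [2, 2, 2, 0, 3, 3, 3, 3, 0, 3, 3, 3, 0, 2, 2, 0, 2, 2, 2, 0, 2, 2, 0]),
    ([2, 2, 2, 0, 3, 3, 3, 3, 0, 3, 3, 3, 0, 2, 2, 0, 3, 3, 3, 0, 2, 2, 0], [], [2, 2, 2, 0, 3, 3, 3, 3, 0, 3, 3, 3, 0, 2, 2, 0, 3, 3, 3, 0, 2, 2, 0]),
    ([3, 3, 3, 0, 2, 2, 0, 3, 3, 3, 0, 3, 3, 3, 3, 0, 2, 2, 2, 0, 2, 2, 0], [], [3, 3, 3, 0, 2, 2, 0, 3, 3, 3, 0, 3, 3, 3, 3, 0, 2, 2, 2, 0, 2, 2, 0]),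
    ([3, 3, 3, 3, 3, 0, 2, 0, 2, 0, 2, 0, 3, 3, 3, 3, 3, 0, 2, 0, 2, 0, 2, 0], [], [3, 3, 3, 3, 3, 0, 2, 0, 2, 0, 2, 0, 3, 3, 3, 3, 3, 0, 2, 0, 2, 0, 2, 0]),
    ([3, 3, 0, 3, 3, 3, 3, 0, 3, 0, 3, 0, 2, 2, 0, 2, 2, 2, 2, 0, 2, 0, 2, 0], [], [3, 3, 0, 3, 3, 3, 3, 0, 3, 0, 3, 0, 2, 2, 0, 2, 2, 2, 2, 0, 2, 0, 2, 0]),
    ([3, 3, 3, 0, 2, 0, 3, 3, 3, 0, 2, 0, 3, 3, 3, 0, 2, 0, 2, 2, 2, 0, 2, 0], [], [3, 3, 3, 0, 2, 0, 3, 3, 3, 0, 2, 0, 3, 3, 3, 0, 2, 0, 2, 2, 2, 0, 2, 0]),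
    ([3, 3, 0, 2, 2, 0, 3, 0, 2, 2, 2, 2, 2, 0, 2, 2, 0, 3, 3, 0, 2, 0, 2, 0], [], [3, 3, 0, 2, 2, 0, 3, 0, 2, 2, 2, 2, 2, 0, 2, 2, 0, 3, 3, 0, 2, 0, 2, 0])] (by decide +kernel) (rels := L23.rels) (by decide +kernel)) ⊥ (by simp [L23.subs]))
  have k23 := extend k22 (L25.mem (derive hx one_sq k22 [([3, 0, 0, 2, 0, 0], [], [0, 0]),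
    ([2, 2, 2, 2, 2, 2], [], [2, 2, 2, 2, 2, 2]),
    ([2, 0, 3, 1, 2, 0, 3, 1, 2, 0, 3, 1], [2, 0], [3, 0, 2, 0, 3, 0, 2, 0, 3, 0, 2, 0]),
    ([2, 2, 2, 0, 2, 2, 1, 2, 2, 2, 0, 2, 2, 1, 2, 2, 2, 0, 2, 2, 1], [], [2, 2, 2, 0, 2, 2, 0, 2, 2, 2, 0, 2, 2, 0, 2, 2, 2, 0, 2, 2, 0]),
    ([2, 0, 2, 0, 2, 0, 2, 0, 2, 0, 2, 0, 2, 0, 2, 0], [], [2, 0, 2, 0, 2, 0, 2, 0, 2, 0, 2, 0, 2, 0, 2, 0]),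
    ([2, 2, 2, 0, 2, 0, 2, 2, 2, 0, 2, 0, 2, 2, 2, 0, 2, 0, 2, 2, 2, 0, 2, 0], [], [2, 2, 2, 0, 2, 0, 2, 2, 2, 0, 2, 0, 2, 2, 2, 0, 2, 0, 2, 2, 2, 0, 2, 0]),
    ([3, 3, 0, 2, 0, 2, 0, 3, 3, 0, 2, 2, 1, 3, 1, 3, 1, 2, 2, 1], [], [3, 3, 0, 2, 0, 2, 0, 3, 3, 0, 2, 2, 0, 3, 0, 3, 0, 2, 2, 0]),
    ([2, 2, 2, 2, 2, 2], [], [2, 2, 2, 2, 2, 2]),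
    ([3, 3, 3, 0, 3, 3, 3, 3, 0, 2, 2, 2, 0, 2, 2, 0, 2, 2, 2, 0, 2, 2, 0], [], [3, 3, 3, 0, 3, 3, 3, 3, 0, 2, 2, 2, 0, 2, 2, 0, 2, 2, 2, 0, 2, 2, 0]),
    ([2, 2, 2, 0, 3, 3, 3, 3, 0, 3, 3, 3, 0, 2, 2, 0, 3, 3, 3, 0, 2, 2, 0], [], [2, 2, 2, 0, 3, 3, 3, 3, 0, 3, 3, 3, 0, 2, 2, 0, 3, 3, 3, 0, 2, 2, 0]),
    ([3, 3, 3, 0, 2, 0, 3, 3, 3, 0, 2, 0, 2, 2, 2, 0, 2, 0, 2, 2, 2, 0, 2, 0], [], [3, 3, 3, 0, 2, 0, 3, 3, 3, 0, 2, 0, 2, 2, 2, 0, 2, 0, 2, 2, 2, 0, 2, 0]),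
    ([3, 0, 2, 0, 3, 3, 0, 2, 2, 0, 3, 3, 0, 2, 0, 2, 0, 3, 3, 0, 2, 0, 2, 0], [], [3, 0, 2, 0, 3, 3, 0, 2, 2, 0, 3, 3, 0, 2, 0, 2, 0, 3, 3, 0, 2, 0, 2, 0])] (by decide +kernel) (rels := L25.rels) (by decide +kernel)) ⊥ (by simp [L25.subs]))
  have k24 := extend k23 (L24.mem (derive hx one_sq k23 [([3, 0, 0, 2, 0, 0], [], [0, 0]),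
    ([2, 2, 2, 2, 2, 2], [], [2, 2, 2, 2, 2, 2]),
    ([2, 0, 3, 1, 2, 0, 3, 1, 2, 0, 3, 1], [2, 0], [3, 0, 2, 0, 3, 0, 2, 0, 3, 0, 2, 0]),
    ([2, 2, 2, 0, 2, 2, 1, 2, 2, 2, 0, 2, 2, 1, 2, 2, 2, 0, 2, 2, 1], [], [2, 2, 2, 0, 2, 2, 0, 2, 2, 2, 0, 2, 2, 0, 2, 2, 2, 0, 2, 2, 0]),
    ([2, 0, 2, 0, 2, 0, 2, 0, 2, 0, 2, 0, 2, 0, 2, 0], [], [2, 0, 2, 0, 2, 0, 2, 0, 2, 0, 2, 0, 2, 0, 2, 0]),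
    ([2, 2, 2, 0, 2, 0, 2, 2, 2, 0, 2, 0, 2, 2, 2, 0, 2, 0, 2, 2, 2, 0, 2, 0], [], [2, 2, 2, 0, 2, 0, 2, 2, 2, 0, 2, 0, 2, 2, 2, 0, 2, 0, 2, 2, 2, 0, 2, 0]),
    ([3, 3, 0, 2, 0, 2, 0, 3, 3, 0, 2, 2, 1, 3, 1, 3, 1, 2, 2, 1], [], [3, 3, 0, 2, 0, 2, 0, 3, 3, 0, 2, 2, 0, 3, 0, 3, 0, 2, 2, 0]),
    ([2, 0, 3, 1, 2, 0, 3, 1, 2, 0, 3, 1], [2, 0], [3, 0, 2, 0, 3, 0, 2, 0, 3, 0, 2, 0]),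
    ([3, 3, 0, 2, 0, 2, 0, 3, 3, 0, 2, 2, 1, 3, 1, 3, 1, 2, 2, 1], [3, 3, 0, 2, 0, 2, 0], [3, 3, 0, 2, 2, 0, 3, 0, 3, 0, 2, 2, 0, 3, 3, 0, 2, 0, 2, 0]),
    ([3, 0, 3, 3, 3, 3, 3, 0, 3, 0, 2, 0, 2, 2, 2, 2, 2, 0, 2, 0], [], [3, 0, 3, 3, 3, 3, 3, 0, 3, 0, 2, 0, 2, 2, 2, 2, 2, 0, 2, 0]),
    ([3, 3, 3, 0, 2, 2, 0, 3, 3, 3, 0, 2, 2, 0, 2, 2, 2, 0, 2, 2, 0], [], [3, 3, 3, 0, 2, 2, 0, 3, 3, 3, 0, 2, 2, 0, 2, 2, 2, 0, 2, 2, 0]),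
    ([3, 3, 3, 0, 3, 3, 3, 3, 0, 2, 2, 2, 0, 2, 2, 0, 2, 2, 2, 0, 2, 2, 0], [], [3, 3, 3, 0, 3, 3, 3, 3, 0, 2, 2, 2, 0, 2, 2, 0, 2, 2, 2, 0, 2, 2, 0]),
    ([2, 2, 2, 0, 3, 3, 3, 3, 0, 3, 3, 3, 0, 2, 2, 0, 3, 3, 3, 0, 2, 2, 0], [], [2, 2, 2, 0, 3, 3, 3, 3, 0, 3, 3, 3, 0, 2, 2, 0, 3, 3, 3, 0, 2, 2, 0]),
    ([3, 3, 3, 0, 2, 0, 3, 3, 3, 0, 2, 0, 3, 3, 3, 0, 2, 0, 2, 2, 2, 0, 2, 0], [], [3, 3, 3, 0, 2, 0, 3, 3, 3, 0, 2, 0, 3, 3, 3, 0, 2, 0, 2, 2, 2, 0, 2, 0])] (by decide +kernel) (rels := L24.rels) (by decide +kernel)) ⊥ (by simp [L24.subs]))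
  have k25 := extend k24 (L26.mem (derive hx one_sq k24 [([3, 0, 0, 2, 0, 0], [], [0, 0]),
    ([2, 2, 2, 2, 2, 2], [], [2, 2, 2, 2, 2, 2]),
    ([2, 0, 3, 1, 2, 0, 3, 1, 2, 0, 3, 1], [2, 0], [3, 0, 2, 0, 3, 0, 2, 0, 3, 0, 2, 0]),
    ([2, 2, 2, 0, 2, 2, 1, 2, 2, 2, 0, 2, 2, 1, 2, 2, 2, 0, 2, 2, 1], [], [2, 2, 2, 0, 2, 2, 0, 2, 2, 2, 0, 2, 2, 0, 2, 2, 2, 0, 2, 2, 0]),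
    ([2, 0, 2, 0, 2, 0, 2, 0, 2, 0, 2, 0, 2, 0, 2, 0], [], [2, 0, 2, 0, 2, 0, 2, 0, 2, 0, 2, 0, 2, 0, 2, 0]),
    ([2, 2, 2, 0, 2, 0, 2, 2, 2, 0, 2, 0, 2, 2, 2, 0, 2, 0, 2, 2, 2, 0, 2, 0], [], [2, 2, 2, 0, 2, 0, 2, 2, 2, 0, 2, 0, 2, 2, 2, 0, 2, 0, 2, 2, 2, 0, 2, 0]),
    ([3, 3, 0, 2, 0, 2, 0, 3, 3, 0, 2, 2, 1, 3, 1, 3, 1, 2, 2, 1], [], [3, 3, 0, 2, 0, 2, 0, 3, 3, 0, 2, 2, 0, 3, 0, 3, 0, 2, 2, 0]),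
    ([2, 2, 2, 2, 2, 2], [], [2, 2, 2, 2, 2, 2]),
    ([2, 0, 3, 1, 2, 0, 3, 1, 2, 0, 3, 1], [2, 0], [3, 0, 2, 0, 3, 0, 2, 0, 3, 0, 2, 0]),
    ([3, 0, 2, 0, 3, 0, 2, 0, 2, 2, 2, 2, 2, 0, 2, 0], [], [3, 0, 2, 0, 3, 0, 2, 0, 2, 2, 2, 2, 2, 0, 2, 0]),
    ([3, 3, 3, 3, 3, 0, 2, 0, 2, 0, 2, 0, 2, 0, 2, 0, 2, 0, 2, 0], [], [3, 3, 3, 3, 3, 0, 2, 0, 2, 0, 2, 0, 2, 0, 2, 0, 2, 0, 2, 0]),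
    ([3, 0, 3, 3, 3, 3, 3, 0, 3, 0, 2, 0, 2, 2, 2, 2, 2, 0, 2, 0], [], [3, 0, 3, 3, 3, 3, 3, 0, 3, 0, 2, 0, 2, 2, 2, 2, 2, 0, 2, 0]),
    ([3, 3, 0, 2, 2, 0, 3, 0, 3, 0, 2, 2, 0, 2, 2, 2, 2, 0, 2, 0, 2, 0], [], [3, 3, 0, 2, 2, 0, 3, 0, 3, 0, 2, 2, 0, 2, 2, 2, 2, 0, 2, 0, 2, 0]),
    ([2, 2, 2, 0, 3, 3, 3, 3, 0, 3, 3, 3, 0, 2, 2, 0, 3, 3, 3, 0, 2, 2, 0], [], [2, 2, 2, 0, 3, 3, 3, 3, 0, 3, 3, 3, 0, 2, 2, 0, 3, 3, 3, 0, 2, 2, 0]),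
    ([3, 3, 3, 0, 2, 0, 3, 3, 3, 0, 2, 0, 2, 2, 2, 0, 2, 0, 2, 2, 2, 0, 2, 0], [], [3, 3, 3, 0, 2, 0, 3, 3, 3, 0, 2, 0, 2, 2, 2, 0, 2, 0, 2, 2, 2, 0, 2, 0]),
    ([3, 3, 3, 3, 3, 0, 2, 0, 2, 0, 2, 0, 3, 3, 3, 3, 3, 0, 2, 0, 2, 0, 2, 0], [], [3, 3, 3, 3, 3, 0, 2, 0, 2, 0, 2, 0, 3, 3, 3, 3, 3, 0, 2, 0, 2, 0, 2, 0]),
    ([3, 3, 0, 3, 3, 3, 3, 0, 3, 0, 3, 0, 2, 2, 0, 2, 2, 2, 2, 0, 2, 0, 2, 0], [], [3, 3, 0, 3, 3, 3, 3, 0, 3, 0, 3, 0, 2, 2, 0, 2, 2, 2, 2, 0, 2, 0, 2, 0]),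
    ([3, 3, 0, 2, 0, 2, 0, 3, 3, 0, 2, 2, 0, 3, 3, 0, 2, 0, 3, 0, 2, 0, 2, 0], [], [3, 3, 0, 2, 0, 2, 0, 3, 3, 0, 2, 2, 0, 3, 3, 0, 2, 0, 3, 0, 2, 0, 2, 0]),
    ([3, 3, 0, 2, 2, 0, 2, 2, 2, 2, 2, 0, 3, 0, 2, 2, 0, 3, 3, 0, 2, 0, 2, 0], [], [3, 3, 0, 2, 2, 0, 2, 2, 2, 2, 2, 0, 3, 0, 2, 2, 0, 3, 3, 0, 2, 0, 2, 0])] (by decide +kernel) (rels := L26.rels) (by decide +kernel)) ⊥ (by simp [L26.subs]))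
  have k26 := extend k25 (L31.mem (derive hx one_sq k25 [([3, 0, 0, 2, 0, 0], [], [0, 0]),
    ([2, 2, 2, 2, 2, 2], [], [2, 2, 2, 2, 2, 2]),
    ([2, 0, 3, 1, 2, 0, 3, 1, 2, 0, 3, 1], [2, 0], [3, 0, 2, 0, 3, 0, 2, 0, 3, 0, 2, 0]),
    ([2, 2, 2, 0, 2, 2, 1, 2, 2, 2, 0, 2, 2, 1, 2, 2, 2, 0, 2, 2, 1], [], [2, 2, 2, 0, 2, 2, 0, 2, 2, 2, 0, 2, 2, 0, 2, 2, 2, 0, 2, 2, 0]),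
    ([2, 0, 2, 0, 2, 0, 2, 0, 2, 0, 2, 0, 2, 0, 2, 0], [], [2, 0, 2, 0, 2, 0, 2, 0, 2, 0, 2, 0, 2, 0, 2, 0]),
    ([2, 2, 2, 0, 2, 0, 2, 2, 2, 0, 2, 0, 2, 2, 2, 0, 2, 0, 2, 2, 2, 0, 2, 0], [], [2, 2, 2, 0, 2, 0, 2, 2, 2, 0, 2, 0, 2, 2, 2, 0, 2, 0, 2, 2, 2, 0, 2, 0]),
    ([3, 3, 0, 2, 0, 2, 0, 3, 3, 0, 2, 2, 1, 3, 1, 3, 1, 2, 2, 1], [], [3, 3, 0, 2, 0, 2, 0, 3, 3, 0, 2, 2, 0, 3, 0, 3, 0, 2, 2, 0]),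
    ([2, 0, 3, 1, 2, 0, 3, 1, 2, 0, 3, 1], [2, 0], [3, 0, 2, 0, 3, 0, 2, 0, 3, 0, 2, 0]),
    ([2, 0, 2, 0, 2, 0, 2, 0, 2, 0, 2, 0, 2, 0, 2, 0], [], [2, 0, 2, 0, 2, 0, 2, 0, 2, 0, 2, 0, 2, 0, 2, 0]),
    ([3, 3, 3, 3, 3, 0, 2, 0, 2, 0, 2, 0, 2, 0, 2, 0, 2, 0, 2, 0], [], [3, 3, 3, 3, 3, 0, 2, 0, 2, 0, 2, 0, 2, 0, 2, 0, 2, 0, 2, 0]),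
    ([3, 0, 3, 3, 3, 3, 3, 0, 3, 0, 2, 0, 2, 2, 2, 2, 2, 0, 2, 0], [], [3, 0, 3, 3, 3, 3, 3, 0, 3, 0, 2, 0, 2, 2, 2, 2, 2, 0, 2, 0]),
    ([3, 3, 0, 2, 0, 3, 0, 2, 0, 3, 0, 2, 2, 0, 3, 0, 2, 0, 3, 0, 2, 0], [], [3, 3, 0, 2, 0, 3, 0, 2, 0, 3, 0, 2, 2, 0, 3, 0, 2, 0, 3, 0, 2, 0]),
    ([3, 3, 3, 0, 3, 3, 3, 3, 0, 2, 2, 2, 0, 2, 2, 0, 2, 2, 2, 0, 2, 2, 0], [], [3, 3, 3, 0, 3, 3, 3, 3, 0, 2, 2, 2, 0, 2, 2, 0, 2, 2, 2, 0, 2, 2, 0]),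
    ([3, 3, 3, 3, 3, 0, 2, 0, 2, 0, 2, 0, 3, 3, 3, 3, 3, 0, 2, 0, 2, 0, 2, 0], [], [3, 3, 3, 3, 3, 0, 2, 0, 2, 0, 2, 0, 3, 3, 3, 3, 3, 0, 2, 0, 2, 0, 2, 0]),
    ([3, 3, 3, 0, 2, 0, 3, 3, 3, 0, 2, 0, 3, 3, 3, 0, 2, 0, 2, 2, 2, 0, 2, 0], [], [3, 3, 3, 0, 2, 0, 3, 3, 3, 0, 2, 0, 3, 3, 3, 0, 2, 0, 2, 2, 2, 0, 2, 0]),
    ([3, 0, 2, 0, 3, 3, 0, 2, 2, 0, 3, 3, 0, 2, 0, 2, 0, 3, 3, 0, 2, 0, 2, 0], [], [3, 0, 2, 0, 3, 3, 0, 2, 2, 0, 3, 3, 0, 2, 0, 2, 0, 3, 3, 0, 2, 0, 2, 0]),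
    ([3, 3, 0, 2, 2, 0, 3, 0, 3, 0, 2, 0, 2, 0, 3, 0, 2, 0, 3, 0, 3, 0, 2, 0, 2, 0], [], [3, 3, 0, 2, 2, 0, 3, 0, 3, 0, 2, 0, 2, 0, 3, 0, 2, 0, 3, 0, 3, 0, 2, 0, 2, 0])] (by decide +kernel) (rels := L31.rels) (by decide +kernel)) ⊥ (by simp [L31.subs]))
  have k27 := extend k26 (L27.mem (derive hx one_sq k26 [([3, 0, 0, 2, 0, 0], [], [0, 0]),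
    ([2, 2, 2, 2, 2, 2], [], [2, 2, 2, 2, 2, 2]),
    ([2, 0, 3, 1, 2, 0, 3, 1, 2, 0, 3, 1], [2, 0], [3, 0, 2, 0, 3, 0, 2, 0, 3, 0, 2, 0]),
    ([2, 2, 2, 0, 2, 2, 1, 2, 2, 2, 0, 2, 2, 1, 2, 2, 2, 0, 2, 2, 1], [], [2, 2, 2, 0, 2, 2, 0, 2, 2, 2, 0, 2, 2, 0, 2, 2, 2, 0, 2, 2, 0]),
    ([2, 0, 2, 0, 2, 0, 2, 0, 2, 0, 2, 0, 2, 0, 2, 0], [], [2, 0, 2, 0, 2, 0, 2, 0, 2, 0, 2, 0, 2, 0, 2, 0]),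
    ([2, 2, 2, 0, 2, 0, 2, 2, 2, 0, 2, 0, 2, 2, 2, 0, 2, 0, 2, 2, 2, 0, 2, 0], [], [2, 2, 2, 0, 2, 0, 2, 2, 2, 0, 2, 0, 2, 2, 2, 0, 2, 0, 2, 2, 2, 0, 2, 0]),
    ([3, 3, 0, 2, 0, 2, 0, 3, 3, 0, 2, 2, 1, 3, 1, 3, 1, 2, 2, 1], [], [3, 3, 0, 2, 0, 2, 0, 3, 3, 0, 2, 2, 0, 3, 0, 3, 0, 2, 2, 0]),
    ([3, 3, 3, 0, 2, 2, 0, 2, 2, 2, 0, 2, 2, 0, 2, 2, 2, 0, 2, 2, 0], [], [3, 3, 3, 0, 2, 2, 0, 2, 2, 2, 0, 2, 2, 0, 2, 2, 2, 0, 2, 2, 0]),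
    ([3, 3, 3, 0, 2, 2, 0, 3, 3, 3, 0, 2, 2, 0, 2, 2, 2, 0, 2, 2, 0], [], [3, 3, 3, 0, 2, 2, 0, 3, 3, 3, 0, 2, 2, 0, 2, 2, 2, 0, 2, 2, 0]),
    ([3, 3, 0, 2, 2, 0, 3, 0, 3, 0, 2, 2, 0, 2, 2, 2, 2, 0, 2, 0, 2, 0], [], [3, 3, 0, 2, 2, 0, 3, 0, 3, 0, 2, 2, 0, 2, 2, 2, 2, 0, 2, 0, 2, 0]),
    ([3, 3, 3, 0, 2, 0, 2, 2, 2, 0, 2, 0, 2, 2, 2, 0, 2, 0, 2, 2, 2, 0, 2, 0], [], [3, 3, 3, 0, 2, 0, 2, 2, 2, 0, 2, 0, 2, 2, 2, 0, 2, 0, 2, 2, 2, 0, 2, 0]),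
    ([3, 3, 0, 3, 3, 3, 3, 0, 3, 0, 3, 0, 2, 2, 0, 2, 2, 2, 2, 0, 2, 0, 2, 0], [], [3, 3, 0, 3, 3, 3, 3, 0, 3, 0, 3, 0, 2, 2, 0, 2, 2, 2, 2, 0, 2, 0, 2, 0]),
    ([3, 3, 3, 0, 2, 0, 3, 3, 3, 0, 2, 0, 3, 3, 3, 0, 2, 0, 2, 2, 2, 0, 2, 0], [], [3, 3, 3, 0, 2, 0, 3, 3, 3, 0, 2, 0, 3, 3, 3, 0, 2, 0, 2, 2, 2, 0, 2, 0]),
    ([3, 3, 0, 2, 2, 0, 2, 2, 2, 2, 2, 0, 3, 0, 2, 2, 0, 3, 3, 0, 2, 0, 2, 0], [], [3, 3, 0, 2, 2, 0, 2, 2, 2, 2, 2, 0, 3, 0, 2, 2, 0, 3, 3, 0, 2, 0, 2, 0])] (by decide +kernel) (rels := L27.rels) (by decide +kernel)) ⊥ (by simp [L27.subs]))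
  have k28 := extend k27 (L28.mem (derive hx one_sq k27 [([3, 0, 0, 2, 0, 0], [], [0, 0]),
    ([2, 2, 2, 2, 2, 2], [], [2, 2, 2, 2, 2, 2]),
    ([2, 0, 3, 1, 2, 0, 3, 1, 2, 0, 3, 1], [2, 0], [3, 0, 2, 0, 3, 0, 2, 0, 3, 0, 2, 0]),
    ([2, 2, 2, 0, 2, 2, 1, 2, 2, 2, 0, 2, 2, 1, 2, 2, 2, 0, 2, 2, 1], [], [2, 2, 2, 0, 2, 2, 0, 2, 2, 2, 0, 2, 2, 0, 2, 2, 2, 0, 2, 2, 0]),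
    ([2, 0, 2, 0, 2, 0, 2, 0, 2, 0, 2, 0, 2, 0, 2, 0], [], [2, 0, 2, 0, 2, 0, 2, 0, 2, 0, 2, 0, 2, 0, 2, 0]),
    ([2, 2, 2, 0, 2, 0, 2, 2, 2, 0, 2, 0, 2, 2, 2, 0, 2, 0, 2, 2, 2, 0, 2, 0], [], [2, 2, 2, 0, 2, 0, 2, 2, 2, 0, 2, 0, 2, 2, 2, 0, 2, 0, 2, 2, 2, 0, 2, 0]),
    ([3, 3, 0, 2, 0, 2, 0, 3, 3, 0, 2, 2, 1, 3, 1, 3, 1, 2, 2, 1], [], [3, 3, 0, 2, 0, 2, 0, 3, 3, 0, 2, 2, 0, 3, 0, 3, 0, 2, 2, 0]),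
    ([2, 0, 3, 1, 2, 0, 3, 1, 2, 0, 3, 1], [2, 0], [3, 0, 2, 0, 3, 0, 2, 0, 3, 0, 2, 0]),
    ([2, 2, 2, 0, 3, 3, 3, 3, 0, 3, 3, 3, 0, 2, 2, 0, 3, 3, 3, 0, 2, 2, 0], [], [2, 2, 2, 0, 3, 3, 3, 3, 0, 3, 3, 3, 0, 2, 2, 0, 3, 3, 3, 0, 2, 2, 0]),
    ([3, 3, 3, 0, 2, 0, 3, 3, 3, 0, 2, 0, 3, 3, 3, 0, 2, 0, 2, 2, 2, 0, 2, 0], [], [3, 3, 3, 0, 2, 0, 3, 3, 3, 0, 2, 0, 3, 3, 3, 0, 2, 0, 2, 2, 2, 0, 2, 0]),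
    ([3, 3, 0, 2, 0, 2, 0, 3, 3, 0, 2, 2, 0, 3, 3, 0, 2, 0, 3, 0, 2, 0, 2, 0], [], [3, 3, 0, 2, 0, 2, 0, 3, 3, 0, 2, 2, 0, 3, 3, 0, 2, 0, 3, 0, 2, 0, 2, 0])] (by decide +kernel) (rels := L28.rels) (by decide +kernel)) ⊥ (by simp [L28.subs]))
  have k29 := extend k28 (L29.mem (derive hx one_sq k28 [([3, 0, 0, 2, 0, 0], [], [0, 0]),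
    ([2, 2, 2, 2, 2, 2], [], [2, 2, 2, 2, 2, 2]),
    ([2, 0, 3, 1, 2, 0, 3, 1, 2, 0, 3, 1], [2, 0], [3, 0, 2, 0, 3, 0, 2, 0, 3, 0, 2, 0]),
    ([2, 2, 2, 0, 2, 2, 1, 2, 2, 2, 0, 2, 2, 1, 2, 2, 2, 0, 2, 2, 1], [], [2, 2, 2, 0, 2, 2, 0, 2, 2, 2, 0, 2, 2, 0, 2, 2, 2, 0, 2, 2, 0]),
    ([2, 0, 2, 0, 2, 0, 2, 0, 2, 0, 2, 0, 2, 0, 2, 0], [], [2, 0, 2, 0, 2, 0, 2, 0, 2, 0, 2, 0, 2, 0, 2, 0]),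
    ([2, 2, 2, 0, 2, 0, 2, 2, 2, 0, 2, 0, 2, 2, 2, 0, 2, 0, 2, 2, 2, 0, 2, 0], [], [2, 2, 2, 0, 2, 0, 2, 2, 2, 0, 2, 0, 2, 2, 2, 0, 2, 0, 2, 2, 2, 0, 2, 0]),
    ([3, 3, 0, 2, 0, 2, 0, 3, 3, 0, 2, 2, 1, 3, 1, 3, 1, 2, 2, 1], [], [3, 3, 0, 2, 0, 2, 0, 3, 3, 0, 2, 2, 0, 3, 0, 3, 0, 2, 2, 0])] (by decide +kernel) (rels := L29.rels) (by decide +kernel)) ⊥ (by simp [L29.subs]))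
  have k30 := extend k29 (L30.mem (derive hx one_sq k29 [([3, 0, 0, 2, 0, 0], [], [0, 0]),
    ([2, 2, 2, 2, 2, 2], [], [2, 2, 2, 2, 2, 2]),
    ([2, 0, 3, 1, 2, 0, 3, 1, 2, 0, 3, 1], [2, 0], [3, 0, 2, 0, 3, 0, 2, 0, 3, 0, 2, 0]),
    ([2, 2, 2, 0, 2, 2, 1, 2, 2, 2, 0, 2, 2, 1, 2, 2, 2, 0, 2, 2, 1], [], [2, 2, 2, 0, 2, 2, 0, 2, 2, 2, 0, 2, 2, 0, 2, 2, 2, 0, 2, 2, 0]),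
    ([2, 0, 2, 0, 2, 0, 2, 0, 2, 0, 2, 0, 2, 0, 2, 0], [], [2, 0, 2, 0, 2, 0, 2, 0, 2, 0, 2, 0, 2, 0, 2, 0]),
    ([2, 2, 2, 0, 2, 0, 2, 2, 2, 0, 2, 0, 2, 2, 2, 0, 2, 0, 2, 2, 2, 0, 2, 0], [], [2, 2, 2, 0, 2, 0, 2, 2, 2, 0, 2, 0, 2, 2, 2, 0, 2, 0, 2, 2, 2, 0, 2, 0]),
    ([3, 3, 0, 2, 0, 2, 0, 3, 3, 0, 2, 2, 1, 3, 1, 3, 1, 2, 2, 1], [], [3, 3, 0, 2, 0, 2, 0, 3, 3, 0, 2, 2, 0, 3, 0, 3, 0, 2, 2, 0]),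
    ([2, 0, 2, 0, 2, 0, 2, 0, 2, 0, 2, 0, 2, 0, 2, 0], [], [2, 0, 2, 0, 2, 0, 2, 0, 2, 0, 2, 0, 2, 0, 2, 0]),
    ([3, 3, 3, 3, 3, 0, 2, 0, 2, 0, 2, 0, 2, 0, 2, 0, 2, 0, 2, 0], [], [3, 3, 3, 3, 3, 0, 2, 0, 2, 0, 2, 0, 2, 0, 2, 0, 2, 0, 2, 0]),
    ([3, 3, 3, 0, 2, 2, 0, 2, 2, 2, 0, 2, 2, 0, 2, 2, 2, 0, 2, 2, 0], [], [3, 3, 3, 0, 2, 2, 0, 2, 2, 2, 0, 2, 2, 0, 2, 2, 2, 0, 2, 2, 0]),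
    ([2, 2, 0, 3, 0, 2, 0, 3, 0, 2, 2, 0, 2, 0, 2, 0, 2, 0, 2, 0, 2, 0], [], [2, 2, 0, 3, 0, 2, 0, 3, 0, 2, 2, 0, 2, 0, 2, 0, 2, 0, 2, 0, 2, 0]),
    ([3, 3, 0, 2, 0, 3, 0, 2, 0, 3, 0, 2, 2, 0, 3, 0, 2, 0, 3, 0, 2, 0], [], [3, 3, 0, 2, 0, 3, 0, 2, 0, 3, 0, 2, 2, 0, 3, 0, 2, 0, 3, 0, 2, 0]),
    ([2, 2, 2, 2, 0, 2, 2, 0, 3, 0, 3, 0, 2, 2, 0, 3, 3, 0, 2, 0, 2, 0], [], [2, 2, 2, 2, 0, 2, 2, 0, 3, 0, 3, 0, 2, 2, 0, 3, 3, 0, 2, 0, 2, 0]),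
    ([2, 2, 2, 0, 3, 3, 3, 3, 0, 3, 3, 3, 0, 2, 2, 0, 3, 3, 3, 0, 2, 2, 0], [], [2, 2, 2, 0, 3, 3, 3, 3, 0, 3, 3, 3, 0, 2, 2, 0, 3, 3, 3, 0, 2, 2, 0]),
    ([3, 3, 3, 0, 2, 2, 0, 3, 3, 3, 0, 3, 3, 3, 3, 0, 2, 2, 2, 0, 2, 2, 0], [], [3, 3, 3, 0, 2, 2, 0, 3, 3, 3, 0, 3, 3, 3, 3, 0, 2, 2, 2, 0, 2, 2, 0]),
    ([3, 3, 3, 3, 3, 0, 2, 0, 2, 0, 2, 0, 3, 3, 3, 3, 3, 0, 2, 0, 2, 0, 2, 0], [], [3, 3, 3, 3, 3, 0, 2, 0, 2, 0, 2, 0, 3, 3, 3, 3, 3, 0, 2, 0, 2, 0, 2, 0]),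
    ([3, 3, 3, 0, 2, 0, 3, 3, 3, 0, 2, 0, 3, 3, 3, 0, 2, 0, 2, 2, 2, 0, 2, 0], [], [3, 3, 3, 0, 2, 0, 3, 3, 3, 0, 2, 0, 3, 3, 3, 0, 2, 0, 2, 2, 2, 0, 2, 0]),
    ([3, 3, 0, 2, 2, 0, 3, 0, 2, 2, 2, 2, 2, 0, 2, 2, 0, 3, 3, 0, 2, 0, 2, 0], [], [3, 3, 0, 2, 2, 0, 3, 0, 2, 2, 2, 2, 2, 0, 2, 2, 0, 3, 3, 0, 2, 0, 2, 0]),
    ([3, 3, 0, 2, 0, 2, 0, 3, 3, 0, 2, 2, 0, 3, 3, 0, 2, 0, 3, 0, 2, 0, 2, 0], [], [3, 3, 0, 2, 0, 2, 0, 3, 3, 0, 2, 2, 0, 3, 3, 0, 2, 0, 3, 0, 2, 0, 2, 0]),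
    ([3, 3, 0, 2, 2, 0, 3, 0, 3, 0, 2, 0, 2, 0, 3, 0, 2, 0, 3, 0, 3, 0, 2, 0, 2, 0], [], [3, 3, 0, 2, 2, 0, 3, 0, 3, 0, 2, 0, 2, 0, 3, 0, 2, 0, 3, 0, 3, 0, 2, 0, 2, 0]),
    ([3, 3, 0, 2, 0, 2, 0, 3, 0, 2, 0, 3, 3, 0, 2, 2, 0, 2, 2, 2, 2, 0, 2, 0, 2, 0], [], [3, 3, 0, 2, 0, 2, 0, 3, 0, 2, 0, 3, 3, 0, 2, 2, 0, 2, 2, 2, 2, 0, 2, 0, 2, 0]),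
    ([3, 3, 0, 2, 0, 2, 0, 2, 2, 2, 2, 0, 2, 2, 0, 3, 3, 0, 2, 0, 3, 0, 2, 0, 2, 0], [], [3, 3, 0, 2, 0, 2, 0, 2, 2, 2, 2, 0, 2, 2, 0, 3, 3, 0, 2, 0, 3, 0, 2, 0, 2, 0]),
    ([3, 0, 2, 0, 2, 2, 0, 3, 0, 2, 2, 2, 0, 3, 0, 2, 2, 2, 0, 3, 0, 2, 2, 0, 2, 0], [], [3, 0, 2, 0, 2, 2, 0, 3, 0, 2, 2, 2, 0, 3, 0, 2, 2, 2, 0, 3, 0, 2, 2, 0, 2, 0])] (by decide +kernel) (rels := L30.rels) (by decide +kernel)) ⊥ (by simp [L30.subs]))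
  have k31 := extend k30 (L32.mem (derive hx one_sq k30 [([3, 0, 0, 2, 0, 0], [], [0, 0]),
    ([2, 2, 2, 2, 2, 2], [], [2, 2, 2, 2, 2, 2]),
    ([2, 0, 3, 1, 2, 0, 3, 1, 2, 0, 3, 1], [2, 0], [3, 0, 2, 0, 3, 0, 2, 0, 3, 0, 2, 0]),
    ([2, 2, 2, 0, 2, 2, 1, 2, 2, 2, 0, 2, 2, 1, 2, 2, 2, 0, 2, 2, 1], [], [2, 2, 2, 0, 2, 2, 0, 2, 2, 2, 0, 2, 2, 0, 2, 2, 2, 0, 2, 2, 0]),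
    ([2, 0, 2, 0, 2, 0, 2, 0, 2, 0, 2, 0, 2, 0, 2, 0], [], [2, 0, 2, 0, 2, 0, 2, 0, 2, 0, 2, 0, 2, 0, 2, 0]),
    ([2, 2, 2, 0, 2, 0, 2, 2, 2, 0, 2, 0, 2, 2, 2, 0, 2, 0, 2, 2, 2, 0, 2, 0], [], [2, 2, 2, 0, 2, 0, 2, 2, 2, 0, 2, 0, 2, 2, 2, 0, 2, 0, 2, 2, 2, 0, 2, 0]),
    ([3, 3, 0, 2, 0, 2, 0, 3, 3, 0, 2, 2, 1, 3, 1, 3, 1, 2, 2, 1], [], [3, 3, 0, 2, 0, 2, 0, 3, 3, 0, 2, 2, 0, 3, 0, 3, 0, 2, 2, 0]),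
    ([2, 2, 2, 2, 2, 2], [], [2, 2, 2, 2, 2, 2]),
    ([2, 0, 3, 1, 2, 0, 3, 1, 2, 0, 3, 1], [2, 0], [3, 0, 2, 0, 3, 0, 2, 0, 3, 0, 2, 0]),
    ([3, 0, 2, 0, 3, 0, 2, 0, 2, 2, 2, 2, 2, 0, 2, 0], [], [3, 0, 2, 0, 3, 0, 2, 0, 2, 2, 2, 2, 2, 0, 2, 0]),
    ([2, 0, 2, 0, 2, 0, 2, 0, 2, 0, 2, 0, 2, 0, 2, 0], [], [2, 0, 2, 0, 2, 0, 2, 0, 2, 0, 2, 0, 2, 0, 2, 0]),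
    ([3, 3, 0, 2, 0, 2, 0, 3, 3, 0, 2, 2, 1, 3, 1, 3, 1, 2, 2, 1], [3, 3, 0, 2, 0, 2, 0], [3, 3, 0, 2, 2, 0, 3, 0, 3, 0, 2, 2, 0, 3, 3, 0, 2, 0, 2, 0]),
    ([3, 3, 3, 3, 3, 0, 2, 0, 2, 0, 2, 0, 2, 0, 2, 0, 2, 0, 2, 0], [], [3, 3, 3, 3, 3, 0, 2, 0, 2, 0, 2, 0, 2, 0, 2, 0, 2, 0, 2, 0]),
    ([3, 0, 3, 3, 3, 3, 3, 0, 3, 0, 2, 0, 2, 2, 2, 2, 2, 0, 2, 0], [], [3, 0, 3, 3, 3, 3, 3, 0, 3, 0, 2, 0, 2, 2, 2, 2, 2, 0, 2, 0]),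
    ([3, 3, 3, 0, 2, 2, 0, 2, 2, 2, 0, 2, 2, 0, 2, 2, 2, 0, 2, 2, 0], [], [3, 3, 3, 0, 2, 2, 0, 2, 2, 2, 0, 2, 2, 0, 2, 2, 2, 0, 2, 2, 0]),
    ([3, 3, 3, 0, 2, 2, 0, 3, 3, 3, 0, 2, 2, 0, 2, 2, 2, 0, 2, 2, 0], [], [3, 3, 3, 0, 2, 2, 0, 3, 3, 3, 0, 2, 2, 0, 2, 2, 2, 0, 2, 2, 0]),
    ([2, 2, 0, 3, 0, 2, 0, 3, 0, 2, 2, 0, 2, 0, 2, 0, 2, 0, 2, 0, 2, 0], [], [2, 2, 0, 3, 0, 2, 0, 3, 0, 2, 2, 0, 2, 0, 2, 0, 2, 0, 2, 0, 2, 0]),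
    ([3, 3, 0, 2, 2, 0, 3, 0, 3, 0, 2, 2, 0, 2, 2, 2, 2, 0, 2, 0, 2, 0], [], [3, 3, 0, 2, 2, 0, 3, 0, 3, 0, 2, 2, 0, 2, 2, 2, 2, 0, 2, 0, 2, 0]),
    ([3, 3, 0, 2, 0, 3, 0, 2, 0, 3, 0, 2, 2, 0, 3, 0, 2, 0, 3, 0, 2, 0], [], [3, 3, 0, 2, 0, 3, 0, 2, 0, 3, 0, 2, 2, 0, 3, 0, 2, 0, 3, 0, 2, 0]),
    ([2, 2, 2, 2, 0, 2, 2, 0, 3, 0, 3, 0, 2, 2, 0, 3, 3, 0, 2, 0, 2, 0], [], [2, 2, 2, 2, 0, 2, 2, 0, 3, 0, 3, 0, 2, 2, 0, 3, 3, 0, 2, 0, 2, 0]),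
    ([3, 3, 3, 0, 3, 3, 3, 3, 0, 2, 2, 2, 0, 2, 2, 0, 2, 2, 2, 0, 2, 2, 0], [], [3, 3, 3, 0, 3, 3, 3, 3, 0, 2, 2, 2, 0, 2, 2, 0, 2, 2, 2, 0, 2, 2, 0]),
    ([2, 2, 2, 0, 3, 3, 3, 3, 0, 3, 3, 3, 0, 2, 2, 0, 2, 2, 2, 0, 2, 2, 0], [], [2, 2, 2, 0, 3, 3, 3, 3, 0, 3, 3, 3, 0, 2, 2, 0, 2, 2, 2, 0, 2, 2, 0]),
    ([2, 2, 2, 0, 3, 3, 3, 3, 0, 3, 3, 3, 0, 2, 2, 0, 3, 3, 3, 0, 2, 2, 0], [], [2, 2, 2, 0, 3, 3, 3, 3, 0, 3, 3, 3, 0, 2, 2, 0, 3, 3, 3, 0, 2, 2, 0]),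
    ([3, 3, 3, 0, 2, 2, 0, 3, 3, 3, 0, 3, 3, 3, 3, 0, 2, 2, 2, 0, 2, 2, 0], [], [3, 3, 3, 0, 2, 2, 0, 3, 3, 3, 0, 3, 3, 3, 3, 0, 2, 2, 2, 0, 2, 2, 0]),
    ([3, 3, 3, 0, 2, 0, 3, 3, 3, 0, 2, 0, 2, 2, 2, 0, 2, 0, 2, 2, 2, 0, 2, 0], [], [3, 3, 3, 0, 2, 0, 3, 3, 3, 0, 2, 0, 2, 2, 2, 0, 2, 0, 2, 2, 2, 0, 2, 0]),
    ([3, 3, 3, 3, 3, 0, 2, 0, 2, 0, 2, 0, 3, 3, 3, 3, 3, 0, 2, 0, 2, 0, 2, 0], [], [3, 3, 3, 3, 3, 0, 2, 0, 2, 0, 2, 0, 3, 3, 3, 3, 3, 0, 2, 0, 2, 0, 2, 0]),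
    ([3, 3, 3, 0, 2, 0, 2, 2, 2, 0, 2, 0, 2, 2, 2, 0, 2, 0, 2, 2, 2, 0, 2, 0], [], [3, 3, 3, 0, 2, 0, 2, 2, 2, 0, 2, 0, 2, 2, 2, 0, 2, 0, 2, 2, 2, 0, 2, 0]),
    ([3, 3, 0, 3, 3, 3, 3, 0, 3, 0, 3, 0, 2, 2, 0, 2, 2, 2, 2, 0, 2, 0, 2, 0], [], [3, 3, 0, 3, 3, 3, 3, 0, 3, 0, 3, 0, 2, 2, 0, 2, 2, 2, 2, 0, 2, 0, 2, 0]),
    ([3, 3, 3, 0, 2, 0, 3, 3, 3, 0, 2, 0, 3, 3, 3, 0, 2, 0, 2, 2, 2, 0, 2, 0], [], [3, 3, 3, 0, 2, 0, 3, 3, 3, 0, 2, 0, 3, 3, 3, 0, 2, 0, 2, 2, 2, 0, 2, 0]),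
    ([3, 3, 0, 2, 2, 0, 3, 0, 2, 2, 2, 2, 2, 0, 2, 2, 0, 3, 3, 0, 2, 0, 2, 0], [], [3, 3, 0, 2, 2, 0, 3, 0, 2, 2, 2, 2, 2, 0, 2, 2, 0, 3, 3, 0, 2, 0, 2, 0]),
    ([3, 0, 2, 0, 3, 3, 0, 2, 2, 0, 3, 3, 0, 2, 0, 2, 0, 3, 3, 0, 2, 0, 2, 0], [], [3, 0, 2, 0, 3, 3, 0, 2, 2, 0, 3, 3, 0, 2, 0, 2, 0, 3, 3, 0, 2, 0, 2, 0]),
    ([3, 3, 0, 2, 0, 2, 0, 3, 3, 0, 2, 2, 0, 3, 3, 0, 2, 0, 3, 0, 2, 0, 2, 0], [], [3, 3, 0, 2, 0, 2, 0, 3, 3, 0, 2, 2, 0, 3, 3, 0, 2, 0, 3, 0, 2, 0, 2, 0]),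
    ([3, 3, 0, 2, 2, 0, 2, 2, 2, 2, 2, 0, 3, 0, 2, 2, 0, 3, 3, 0, 2, 0, 2, 0], [], [3, 3, 0, 2, 2, 0, 2, 2, 2, 2, 2, 0, 3, 0, 2, 2, 0, 3, 3, 0, 2, 0, 2, 0]),
    ([3, 3, 0, 2, 2, 0, 3, 0, 3, 0, 2, 0, 2, 0, 3, 0, 2, 0, 3, 0, 3, 0, 2, 0, 2, 0], [], [3, 3, 0, 2, 2, 0, 3, 0, 3, 0, 2, 0, 2, 0, 3, 0, 2, 0, 3, 0, 3, 0, 2, 0, 2, 0]),
    ([3, 3, 0, 2, 0, 2, 0, 3, 0, 2, 0, 3, 3, 0, 2, 2, 0, 2, 2, 2, 2, 0, 2, 0, 2, 0], [], [3, 3, 0, 2, 0, 2, 0, 3, 0, 2, 0, 3, 3, 0, 2, 2, 0, 2, 2, 2, 2, 0, 2, 0, 2, 0]),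
    ([3, 3, 0, 2, 0, 2, 0, 2, 2, 2, 2, 0, 2, 2, 0, 3, 3, 0, 2, 0, 3, 0, 2, 0, 2, 0], [], [3, 3, 0, 2, 0, 2, 0, 2, 2, 2, 2, 0, 2, 2, 0, 3, 3, 0, 2, 0, 3, 0, 2, 0, 2, 0]),
    ([3, 0, 2, 0, 2, 2, 0, 3, 0, 2, 2, 2, 0, 3, 0, 2, 2, 2, 0, 3, 0, 2, 2, 0, 2, 0], [], [3, 0, 2, 0, 2, 2, 0, 3, 0, 2, 2, 2, 0, 3, 0, 2, 2, 2, 0, 3, 0, 2, 2, 0, 2, 0]),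
    ([3, 3, 3, 0, 3, 3, 0, 2, 0, 2, 0, 3, 3, 0, 2, 2, 2, 0, 2, 0, 2, 0, 2, 0, 2, 0], [], [3, 3, 3, 0, 3, 3, 0, 2, 0, 2, 0, 3, 3, 0, 2, 2, 2, 0, 2, 0, 2, 0, 2, 0, 2, 0]),
    ([3, 0, 3, 0, 2, 2, 0, 3, 3, 0, 2, 0, 2, 0, 3, 0, 3, 0, 2, 0, 3, 0, 2, 0, 2, 0], [], [3, 0, 3, 0, 2, 2, 0, 3, 3, 0, 2, 0, 2, 0, 3, 0, 3, 0, 2, 0, 3, 0, 2, 0, 2, 0])] (by decide +kernel) (rels := L32.rels) (by decide +kernel)) ⊥ (by simp [L32.subs]))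
  have k32 := extend k31 (L33.mem (derive hx one_sq k31 [([3, 0, 0, 2, 0, 0], [], [0, 0]),
    ([2, 2, 2, 2, 2, 2], [], [2, 2, 2, 2, 2, 2]),
    ([2, 0, 3, 1, 2, 0, 3, 1, 2, 0, 3, 1], [2, 0], [3, 0, 2, 0, 3, 0, 2, 0, 3, 0, 2, 0]),
    ([2, 2, 2, 0, 2, 2, 1, 2, 2, 2, 0, 2, 2, 1, 2, 2, 2, 0, 2, 2, 1], [], [2, 2, 2, 0, 2, 2, 0, 2, 2, 2, 0, 2, 2, 0, 2, 2, 2, 0, 2, 2, 0]),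
    ([2, 0, 2, 0, 2, 0, 2, 0, 2, 0, 2, 0, 2, 0, 2, 0], [], [2, 0, 2, 0, 2, 0, 2, 0, 2, 0, 2, 0, 2, 0, 2, 0]),
    ([2, 2, 2, 0, 2, 0, 2, 2, 2, 0, 2, 0, 2, 2, 2, 0, 2, 0, 2, 2, 2, 0, 2, 0], [], [2, 2, 2, 0, 2, 0, 2, 2, 2, 0, 2, 0, 2, 2, 2, 0, 2, 0, 2, 2, 2, 0, 2, 0]),
    ([3, 3, 0, 2, 0, 2, 0, 3, 3, 0, 2, 2, 1, 3, 1, 3, 1, 2, 2, 1], [], [3, 3, 0, 2, 0, 2, 0, 3, 3, 0, 2, 2, 0, 3, 0, 3, 0, 2, 2, 0]),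
    ([2, 2, 0, 3, 0, 2, 0, 3, 0, 2, 2, 0, 2, 0, 2, 0, 2, 0, 2, 0, 2, 0], [], [2, 2, 0, 3, 0, 2, 0, 3, 0, 2, 2, 0, 2, 0, 2, 0, 2, 0, 2, 0, 2, 0]),
    ([3, 3, 0, 3, 3, 3, 3, 0, 3, 0, 3, 0, 2, 2, 0, 2, 2, 2, 2, 0, 2, 0, 2, 0], [], [3, 3, 0, 3, 3, 3, 3, 0, 3, 0, 3, 0, 2, 2, 0, 2, 2, 2, 2, 0, 2, 0, 2, 0]),
    ([3, 3, 0, 2, 2, 0, 3, 0, 3, 0, 2, 0, 2, 0, 3, 0, 2, 0, 3, 0, 3, 0, 2, 0, 2, 0], [], [3, 3, 0, 2, 2, 0, 3, 0, 3, 0, 2, 0, 2, 0, 3, 0, 2, 0, 3, 0, 3, 0, 2, 0, 2, 0]),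
    ([3, 3, 0, 2, 0, 2, 0, 2, 2, 2, 2, 0, 2, 2, 0, 3, 3, 0, 2, 0, 3, 0, 2, 0, 2, 0], [], [3, 3, 0, 2, 0, 2, 0, 2, 2, 2, 2, 0, 2, 2, 0, 3, 3, 0, 2, 0, 3, 0, 2, 0, 2, 0]),
    ([3, 0, 2, 0, 2, 2, 0, 3, 0, 2, 2, 2, 0, 3, 0, 2, 2, 2, 0, 3, 0, 2, 2, 0, 2, 0], [], [3, 0, 2, 0, 2, 2, 0, 3, 0, 2, 2, 2, 0, 3, 0, 2, 2, 2, 0, 3, 0, 2, 2, 0, 2, 0]),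
    ([3, 3, 3, 0, 3, 3, 0, 2, 0, 2, 0, 3, 3, 0, 2, 2, 2, 0, 2, 0, 2, 0, 2, 0, 2, 0], [], [3, 3, 3, 0, 3, 3, 0, 2, 0, 2, 0, 3, 3, 0, 2, 2, 2, 0, 2, 0, 2, 0, 2, 0, 2, 0])] (by decide +kernel) (rels := L33.rels) (by decide +kernel)) ⊥ (by simp [L33.subs]))
  have k33 := extend k32 (L34.mem (derive hx one_sq k32 [([3, 0, 0, 2, 0, 0], [], [0, 0]),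
    ([2, 2, 2, 2, 2, 2], [], [2, 2, 2, 2, 2, 2]),
    ([2, 0, 3, 1, 2, 0, 3, 1, 2, 0, 3, 1], [2, 0], [3, 0, 2, 0, 3, 0, 2, 0, 3, 0, 2, 0]),
    ([2, 2, 2, 0, 2, 2, 1, 2, 2, 2, 0, 2, 2, 1, 2, 2, 2, 0, 2, 2, 1], [], [2, 2, 2, 0, 2, 2, 0, 2, 2, 2, 0, 2, 2, 0, 2, 2, 2, 0, 2, 2, 0]),
    ([2, 0, 2, 0, 2, 0, 2, 0, 2, 0, 2, 0, 2, 0, 2, 0], [], [2, 0, 2, 0, 2, 0, 2, 0, 2, 0, 2, 0, 2, 0, 2, 0]),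
    ([2, 2, 2, 0, 2, 0, 2, 2, 2, 0, 2, 0, 2, 2, 2, 0, 2, 0, 2, 2, 2, 0, 2, 0], [], [2, 2, 2, 0, 2, 0, 2, 2, 2, 0, 2, 0, 2, 2, 2, 0, 2, 0, 2, 2, 2, 0, 2, 0]),
    ([3, 3, 0, 2, 0, 2, 0, 3, 3, 0, 2, 2, 1, 3, 1, 3, 1, 2, 2, 1], [], [3, 3, 0, 2, 0, 2, 0, 3, 3, 0, 2, 2, 0, 3, 0, 3, 0, 2, 2, 0]),
    ([2, 2, 2, 2, 2, 2], [], [2, 2, 2, 2, 2, 2]),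
    ([3, 0, 2, 0, 3, 0, 2, 0, 2, 2, 2, 2, 2, 0, 2, 0], [], [3, 0, 2, 0, 3, 0, 2, 0, 2, 2, 2, 2, 2, 0, 2, 0]),
    ([2, 0, 2, 0, 2, 0, 2, 0, 2, 0, 2, 0, 2, 0, 2, 0], [], [2, 0, 2, 0, 2, 0, 2, 0, 2, 0, 2, 0, 2, 0, 2, 0]),
    ([3, 3, 3, 0, 2, 0, 2, 2, 2, 0, 2, 0, 2, 2, 2, 0, 2, 0, 2, 2, 2, 0, 2, 0], [], [3, 3, 3, 0, 2, 0, 2, 2, 2, 0, 2, 0, 2, 2, 2, 0, 2, 0, 2, 2, 2, 0, 2, 0]),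
    ([3, 3, 3, 0, 3, 3, 0, 2, 0, 2, 0, 3, 3, 0, 2, 2, 2, 0, 2, 0, 2, 0, 2, 0, 2, 0], [], [3, 3, 3, 0, 3, 3, 0, 2, 0, 2, 0, 3, 3, 0, 2, 2, 2, 0, 2, 0, 2, 0, 2, 0, 2, 0])] (by decide +kernel) (rels := L34.rels) (by decide +kernel)) ⊥ (by simp [L34.subs]))
  have k34 := extend k33 (L35.mem (derive hx one_sq k33 [([3, 0, 0, 2, 0, 0], [], [0, 0]),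
    ([2, 2, 2, 2, 2, 2], [], [2, 2, 2, 2, 2, 2]),
    ([2, 0, 3, 1, 2, 0, 3, 1, 2, 0, 3, 1], [2, 0], [3, 0, 2, 0, 3, 0, 2, 0, 3, 0, 2, 0]),
    ([2, 2, 2, 0, 2, 2, 1, 2, 2, 2, 0, 2, 2, 1, 2, 2, 2, 0, 2, 2, 1], [], [2, 2, 2, 0, 2, 2, 0, 2, 2, 2, 0, 2, 2, 0, 2, 2, 2, 0, 2, 2, 0]),
    ([2, 0, 2, 0, 2, 0, 2, 0, 2, 0, 2, 0, 2, 0, 2, 0], [], [2, 0, 2, 0, 2, 0, 2, 0, 2, 0, 2, 0, 2, 0, 2, 0]),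
    ([2, 2, 2, 0, 2, 0, 2, 2, 2, 0, 2, 0, 2, 2, 2, 0, 2, 0, 2, 2, 2, 0, 2, 0], [], [2, 2, 2, 0, 2, 0, 2, 2, 2, 0, 2, 0, 2, 2, 2, 0, 2, 0, 2, 2, 2, 0, 2, 0]),
    ([3, 3, 0, 2, 0, 2, 0, 3, 3, 0, 2, 2, 1, 3, 1, 3, 1, 2, 2, 1], [], [3, 3, 0, 2, 0, 2, 0, 3, 3, 0, 2, 2, 0, 3, 0, 3, 0, 2, 2, 0]),
    ([2, 2, 2, 2, 2, 2], [], [2, 2, 2, 2, 2, 2]),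
    ([2, 0, 3, 1, 2, 0, 3, 1, 2, 0, 3, 1], [2, 0], [3, 0, 2, 0, 3, 0, 2, 0, 3, 0, 2, 0]),
    ([3, 0, 2, 0, 3, 0, 2, 0, 2, 2, 2, 2, 2, 0, 2, 0], [], [3, 0, 2, 0, 3, 0, 2, 0, 2, 2, 2, 2, 2, 0, 2, 0]),
    ([2, 0, 2, 0, 2, 0, 2, 0, 2, 0, 2, 0, 2, 0, 2, 0], [], [2, 0, 2, 0, 2, 0, 2, 0, 2, 0, 2, 0, 2, 0, 2, 0]),
    ([3, 3, 0, 2, 0, 2, 0, 3, 3, 0, 2, 2, 1, 3, 1, 3, 1, 2, 2, 1], [3, 3, 0, 2, 0, 2, 0], [3, 3, 0, 2, 2, 0, 3, 0, 3, 0, 2, 2, 0, 3, 3, 0, 2, 0, 2, 0]),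
    ([3, 3, 3, 3, 3, 0, 2, 0, 2, 0, 2, 0, 2, 0, 2, 0, 2, 0, 2, 0], [], [3, 3, 3, 3, 3, 0, 2, 0, 2, 0, 2, 0, 2, 0, 2, 0, 2, 0, 2, 0]),
    ([3, 0, 3, 3, 3, 3, 3, 0, 3, 0, 2, 0, 2, 2, 2, 2, 2, 0, 2, 0], [], [3, 0, 3, 3, 3, 3, 3, 0, 3, 0, 2, 0, 2, 2, 2, 2, 2, 0, 2, 0]),
    ([3, 3, 3, 0, 2, 2, 0, 2, 2, 2, 0, 2, 2, 0, 2, 2, 2, 0, 2, 2, 0], [], [3, 3, 3, 0, 2, 2, 0, 2, 2, 2, 0, 2, 2, 0, 2, 2, 2, 0, 2, 2, 0]),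
    ([3, 3, 3, 0, 2, 2, 0, 3, 3, 3, 0, 2, 2, 0, 2, 2, 2, 0, 2, 2, 0], [], [3, 3, 3, 0, 2, 2, 0, 3, 3, 3, 0, 2, 2, 0, 2, 2, 2, 0, 2, 2, 0]),
    ([2, 2, 0, 3, 0, 2, 0, 3, 0, 2, 2, 0, 2, 0, 2, 0, 2, 0, 2, 0, 2, 0], [], [2, 2, 0, 3, 0, 2, 0, 3, 0, 2, 2, 0, 2, 0, 2, 0, 2, 0, 2, 0, 2, 0]),
    ([3, 3, 0, 2, 2, 0, 3, 0, 3, 0, 2, 2, 0, 2, 2, 2, 2, 0, 2, 0, 2, 0], [], [3, 3, 0, 2, 2, 0, 3, 0, 3, 0, 2, 2, 0, 2, 2, 2, 2, 0, 2, 0, 2, 0]),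
    ([3, 3, 0, 2, 0, 3, 0, 2, 0, 3, 0, 2, 2, 0, 3, 0, 2, 0, 3, 0, 2, 0], [], [3, 3, 0, 2, 0, 3, 0, 2, 0, 3, 0, 2, 2, 0, 3, 0, 2, 0, 3, 0, 2, 0]),
    ([2, 2, 2, 2, 0, 2, 2, 0, 3, 0, 3, 0, 2, 2, 0, 3, 3, 0, 2, 0, 2, 0], [], [2, 2, 2, 2, 0, 2, 2, 0, 3, 0, 3, 0, 2, 2, 0, 3, 3, 0, 2, 0, 2, 0]),
    ([3, 3, 3, 0, 3, 3, 3, 3, 0, 2, 2, 2, 0, 2, 2, 0, 2, 2, 2, 0, 2, 2, 0], [], [3, 3, 3, 0, 3, 3, 3, 3, 0, 2, 2, 2, 0, 2, 2, 0, 2, 2, 2, 0, 2, 2, 0]),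
    ([2, 2, 2, 0, 3, 3, 3, 3, 0, 3, 3, 3, 0, 2, 2, 0, 2, 2, 2, 0, 2, 2, 0], [], [2, 2, 2, 0, 3, 3, 3, 3, 0, 3, 3, 3, 0, 2, 2, 0, 2, 2, 2, 0, 2, 2, 0]),
    ([2, 2, 2, 0, 3, 3, 3, 3, 0, 3, 3, 3, 0, 2, 2, 0, 3, 3, 3, 0, 2, 2, 0], [], [2, 2, 2, 0, 3, 3, 3, 3, 0, 3, 3, 3, 0, 2, 2, 0, 3, 3, 3, 0, 2, 2, 0]),
    ([3, 3, 3, 0, 2, 2, 0, 3, 3, 3, 0, 3, 3, 3, 3, 0, 2, 2, 2, 0, 2, 2, 0], [], [3, 3, 3, 0, 2, 2, 0, 3, 3, 3, 0, 3, 3, 3, 3, 0, 2, 2, 2, 0, 2, 2, 0]),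
    ([3, 3, 3, 0, 2, 0, 3, 3, 3, 0, 2, 0, 2, 2, 2, 0, 2, 0, 2, 2, 2, 0, 2, 0], [], [3, 3, 3, 0, 2, 0, 3, 3, 3, 0, 2, 0, 2, 2, 2, 0, 2, 0, 2, 2, 2, 0, 2, 0]),
    ([3, 3, 3, 3, 3, 0, 2, 0, 2, 0, 2, 0, 3, 3, 3, 3, 3, 0, 2, 0, 2, 0, 2, 0], [], [3, 3, 3, 3, 3, 0, 2, 0, 2, 0, 2, 0, 3, 3, 3, 3, 3, 0, 2, 0, 2, 0, 2, 0]),
    ([3, 3, 3, 0, 2, 0, 2, 2, 2, 0, 2, 0, 2, 2, 2, 0, 2, 0, 2, 2, 2, 0, 2, 0], [], [3, 3, 3, 0, 2, 0, 2, 2, 2, 0, 2, 0, 2, 2, 2, 0, 2, 0, 2, 2, 2, 0, 2, 0]),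
    ([3, 3, 0, 3, 3, 3, 3, 0, 3, 0, 3, 0, 2, 2, 0, 2, 2, 2, 2, 0, 2, 0, 2, 0], [], [3, 3, 0, 3, 3, 3, 3, 0, 3, 0, 3, 0, 2, 2, 0, 2, 2, 2, 2, 0, 2, 0, 2, 0]),
    ([3, 3, 3, 0, 2, 0, 3, 3, 3, 0, 2, 0, 3, 3, 3, 0, 2, 0, 2, 2, 2, 0, 2, 0], [], [3, 3, 3, 0, 2, 0, 3, 3, 3, 0, 2, 0, 3, 3, 3, 0, 2, 0, 2, 2, 2, 0, 2, 0]),
    ([3, 3, 0, 2, 2, 0, 3, 0, 2, 2, 2, 2, 2, 0, 2, 2, 0, 3, 3, 0, 2, 0, 2, 0], [], [3, 3, 0, 2, 2, 0, 3, 0, 2, 2, 2, 2, 2, 0, 2, 2, 0, 3, 3, 0, 2, 0, 2, 0]),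
    ([3, 0, 2, 0, 3, 3, 0, 2, 2, 0, 3, 3, 0, 2, 0, 2, 0, 3, 3, 0, 2, 0, 2, 0], [], [3, 0, 2, 0, 3, 3, 0, 2, 2, 0, 3, 3, 0, 2, 0, 2, 0, 3, 3, 0, 2, 0, 2, 0]),
    ([3, 3, 0, 2, 0, 2, 0, 3, 3, 0, 2, 2, 0, 3, 3, 0, 2, 0, 3, 0, 2, 0, 2, 0], [], [3, 3, 0, 2, 0, 2, 0, 3, 3, 0, 2, 2, 0, 3, 3, 0, 2, 0, 3, 0, 2, 0, 2, 0]),
    ([3, 3, 0, 2, 2, 0, 2, 2, 2, 2, 2, 0, 3, 0, 2, 2, 0, 3, 3, 0, 2, 0, 2, 0], [], [3, 3, 0, 2, 2, 0, 2, 2, 2, 2, 2, 0, 3, 0, 2, 2, 0, 3, 3, 0, 2, 0, 2, 0]),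
    ([3, 3, 0, 2, 2, 0, 3, 0, 3, 0, 2, 0, 2, 0, 3, 0, 2, 0, 3, 0, 3, 0, 2, 0, 2, 0], [], [3, 3, 0, 2, 2, 0, 3, 0, 3, 0, 2, 0, 2, 0, 3, 0, 2, 0, 3, 0, 3, 0, 2, 0, 2, 0]),
    ([3, 3, 0, 2, 0, 2, 0, 3, 0, 2, 0, 3, 3, 0, 2, 2, 0, 2, 2, 2, 2, 0, 2, 0, 2, 0], [], [3, 3, 0, 2, 0, 2, 0, 3, 0, 2, 0, 3, 3, 0, 2, 2, 0, 2, 2, 2, 2, 0, 2, 0, 2, 0]),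
    ([3, 3, 0, 2, 0, 2, 0, 2, 2, 2, 2, 0, 2, 2, 0, 3, 3, 0, 2, 0, 3, 0, 2, 0, 2, 0], [], [3, 3, 0, 2, 0, 2, 0, 2, 2, 2, 2, 0, 2, 2, 0, 3, 3, 0, 2, 0, 3, 0, 2, 0, 2, 0]),
    ([3, 0, 2, 0, 2, 2, 0, 3, 0, 2, 2, 2, 0, 3, 0, 2, 2, 2, 0, 3, 0, 2, 2, 0, 2, 0], [], [3, 0, 2, 0, 2, 2, 0, 3, 0, 2, 2, 2, 0, 3, 0, 2, 2, 2, 0, 3, 0, 2, 2, 0, 2, 0]),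
    ([3, 3, 3, 0, 3, 3, 0, 2, 0, 2, 0, 3, 3, 0, 2, 2, 2, 0, 2, 0, 2, 0, 2, 0, 2, 0], [], [3, 3, 3, 0, 3, 3, 0, 2, 0, 2, 0, 3, 3, 0, 2, 2, 2, 0, 2, 0, 2, 0, 2, 0, 2, 0]),
    ([3, 0, 3, 0, 2, 2, 0, 3, 3, 0, 2, 0, 2, 0, 3, 0, 3, 0, 2, 0, 3, 0, 2, 0, 2, 0], [], [3, 0, 3, 0, 2, 2, 0, 3, 3, 0, 2, 0, 2, 0, 3, 0, 3, 0, 2, 0, 3, 0, 2, 0, 2, 0]),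
    ([3, 3, 3, 3, 3, 0, 2, 0, 2, 0, 2, 2, 0, 3, 0, 2, 0, 3, 0, 2, 2, 0, 2, 0, 2, 0], [], [3, 3, 3, 3, 3, 0, 2, 0, 2, 0, 2, 2, 0, 3, 0, 2, 0, 3, 0, 2, 2, 0, 2, 0, 2, 0]),
    ([3, 0, 2, 0, 2, 2, 0, 3, 0, 3, 3, 3, 0, 3, 0, 3, 3, 3, 0, 3, 0, 2, 2, 0, 2, 0], [], [3, 0, 2, 0, 2, 2, 0, 3, 0, 3, 3, 3, 0, 3, 0, 3, 3, 3, 0, 3, 0, 2, 2, 0, 2, 0]),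
    ([2, 2, 2, 0, 3, 3, 0, 2, 0, 2, 0, 3, 3, 0, 3, 3, 3, 0, 2, 0, 2, 0, 2, 0, 2, 0], [], [2, 2, 2, 0, 3, 3, 0, 2, 0, 2, 0, 3, 3, 0, 3, 3, 3, 0, 2, 0, 2, 0, 2, 0, 2, 0])] (by decide +kernel) (rels := L35.rels) (by decide +kernel)) ⊥ (by simp [L35.subs]))
  have k35 := extend k34 (L36.mem (derive hx one_sq k34 [([3, 0, 0, 2, 0, 0], [], [0, 0]),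
    ([2, 2, 2, 2, 2, 2], [], [2, 2, 2, 2, 2, 2]),
    ([2, 0, 3, 1, 2, 0, 3, 1, 2, 0, 3, 1], [2, 0], [3, 0, 2, 0, 3, 0, 2, 0, 3, 0, 2, 0]),
    ([2, 2, 2, 0, 2, 2, 1, 2, 2, 2, 0, 2, 2, 1, 2, 2, 2, 0, 2, 2, 1], [], [2, 2, 2, 0, 2, 2, 0, 2, 2, 2, 0, 2, 2, 0, 2, 2, 2, 0, 2, 2, 0]),
    ([2, 0, 2, 0, 2, 0, 2, 0, 2, 0, 2, 0, 2, 0, 2, 0], [], [2, 0, 2, 0, 2, 0, 2, 0, 2, 0, 2, 0, 2, 0, 2, 0]),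
    ([2, 2, 2, 0, 2, 0, 2, 2, 2, 0, 2, 0, 2, 2, 2, 0, 2, 0, 2, 2, 2, 0, 2, 0], [], [2, 2, 2, 0, 2, 0, 2, 2, 2, 0, 2, 0, 2, 2, 2, 0, 2, 0, 2, 2, 2, 0, 2, 0]),
    ([3, 3, 0, 2, 0, 2, 0, 3, 3, 0, 2, 2, 1, 3, 1, 3, 1, 2, 2, 1], [], [3, 3, 0, 2, 0, 2, 0, 3, 3, 0, 2, 2, 0, 3, 0, 3, 0, 2, 2, 0]),
    ([2, 0, 2, 0, 2, 0, 2, 0, 2, 0, 2, 0, 2, 0, 2, 0], [], [2, 0, 2, 0, 2, 0, 2, 0, 2, 0, 2, 0, 2, 0, 2, 0]),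
    ([3, 3, 0, 2, 0, 2, 0, 3, 3, 0, 2, 2, 1, 3, 1, 3, 1, 2, 2, 1], [3, 3, 0, 2, 0, 2, 0], [3, 3, 0, 2, 2, 0, 3, 0, 3, 0, 2, 2, 0, 3, 3, 0, 2, 0, 2, 0]),
    ([3, 3, 3, 3, 3, 0, 2, 0, 2, 0, 2, 0, 2, 0, 2, 0, 2, 0, 2, 0], [], [3, 3, 3, 3, 3, 0, 2, 0, 2, 0, 2, 0, 2, 0, 2, 0, 2, 0, 2, 0]),
    ([3, 3, 3, 0, 2, 2, 0, 2, 2, 2, 0, 2, 2, 0, 2, 2, 2, 0, 2, 2, 0], [], [3, 3, 3, 0, 2, 2, 0, 2, 2, 2, 0, 2, 2, 0, 2, 2, 2, 0, 2, 2, 0]),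
    ([3, 3, 3, 0, 2, 2, 0, 3, 3, 3, 0, 2, 2, 0, 2, 2, 2, 0, 2, 2, 0], [], [3, 3, 3, 0, 2, 2, 0, 3, 3, 3, 0, 2, 2, 0, 2, 2, 2, 0, 2, 2, 0]),
    ([2, 2, 2, 2, 0, 2, 2, 0, 3, 0, 3, 0, 2, 2, 0, 3, 3, 0, 2, 0, 2, 0], [], [2, 2, 2, 2, 0, 2, 2, 0, 3, 0, 3, 0, 2, 2, 0, 3, 3, 0, 2, 0, 2, 0]),
    ([2, 2, 2, 0, 3, 3, 3, 3, 0, 3, 3, 3, 0, 2, 2, 0, 2, 2, 2, 0, 2, 2, 0], [], [2, 2, 2, 0, 3, 3, 3, 3, 0, 3, 3, 3, 0, 2, 2, 0, 2, 2, 2, 0, 2, 2, 0]),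
    ([3, 3, 0, 2, 2, 0, 3, 0, 2, 2, 2, 2, 2, 0, 2, 2, 0, 3, 3, 0, 2, 0, 2, 0], [], [3, 3, 0, 2, 2, 0, 3, 0, 2, 2, 2, 2, 2, 0, 2, 2, 0, 3, 3, 0, 2, 0, 2, 0]),
    ([3, 0, 2, 0, 3, 3, 0, 2, 2, 0, 3, 3, 0, 2, 0, 2, 0, 3, 3, 0, 2, 0, 2, 0], [], [3, 0, 2, 0, 3, 3, 0, 2, 2, 0, 3, 3, 0, 2, 0, 2, 0, 3, 3, 0, 2, 0, 2, 0]),
    ([3, 3, 0, 2, 0, 2, 0, 3, 3, 0, 2, 2, 0, 3, 3, 0, 2, 0, 3, 0, 2, 0, 2, 0], [], [3, 3, 0, 2, 0, 2, 0, 3, 3, 0, 2, 2, 0, 3, 3, 0, 2, 0, 3, 0, 2, 0, 2, 0]),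
    ([3, 3, 0, 2, 2, 0, 3, 0, 3, 0, 2, 0, 2, 0, 3, 0, 2, 0, 3, 0, 3, 0, 2, 0, 2, 0], [], [3, 3, 0, 2, 2, 0, 3, 0, 3, 0, 2, 0, 2, 0, 3, 0, 2, 0, 3, 0, 3, 0, 2, 0, 2, 0]),
    ([3, 3, 0, 2, 0, 2, 0, 3, 0, 2, 0, 3, 3, 0, 2, 2, 0, 2, 2, 2, 2, 0, 2, 0, 2, 0], [], [3, 3, 0, 2, 0, 2, 0, 3, 0, 2, 0, 3, 3, 0, 2, 2, 0, 2, 2, 2, 2, 0, 2, 0, 2, 0]),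
    ([3, 0, 2, 0, 2, 2, 0, 3, 0, 2, 2, 2, 0, 3, 0, 2, 2, 2, 0, 3, 0, 2, 2, 0, 2, 0], [], [3, 0, 2, 0, 2, 2, 0, 3, 0, 2, 2, 2, 0, 3, 0, 2, 2, 2, 0, 3, 0, 2, 2, 0, 2, 0]),
    ([3, 3, 3, 3, 3, 0, 2, 0, 2, 0, 2, 2, 0, 3, 0, 2, 0, 3, 0, 2, 2, 0, 2, 0, 2, 0], [], [3, 3, 3, 3, 3, 0, 2, 0, 2, 0, 2, 2, 0, 3, 0, 2, 0, 3, 0, 2, 2, 0, 2, 0, 2, 0]),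
    ([3, 0, 2, 0, 2, 2, 0, 3, 0, 3, 3, 3, 0, 3, 0, 3, 3, 3, 0, 3, 0, 2, 2, 0, 2, 0], [], [3, 0, 2, 0, 2, 2, 0, 3, 0, 3, 3, 3, 0, 3, 0, 3, 3, 3, 0, 3, 0, 2, 2, 0, 2, 0]),
    ([2, 2, 2, 0, 3, 3, 0, 2, 0, 2, 0, 3, 3, 0, 3, 3, 3, 0, 2, 0, 2, 0, 2, 0, 2, 0], [], [2, 2, 2, 0, 3, 3, 0, 2, 0, 2, 0, 3, 3, 0, 3, 3, 3, 0, 2, 0, 2, 0, 2, 0, 2, 0]),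
    ([3, 0, 2, 0, 2, 2, 0, 3, 0, 3, 3, 3, 0, 3, 0, 2, 2, 2, 0, 3, 0, 2, 2, 0, 2, 0], [], [3, 0, 2, 0, 2, 2, 0, 3, 0, 3, 3, 3, 0, 3, 0, 2, 2, 2, 0, 3, 0, 2, 2, 0, 2, 0])] (by decide +kernel) (rels := L36.rels) (by decide +kernel)) ⊥ (by simp [L36.subs]))
  have k36 := extend k35 (L37.mem (derive hx one_sq k35 [([3, 0, 0, 2, 0, 0], [], [0, 0]),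
    ([2, 2, 2, 2, 2, 2], [], [2, 2, 2, 2, 2, 2]),
    ([2, 0, 3, 1, 2, 0, 3, 1, 2, 0, 3, 1], [2, 0], [3, 0, 2, 0, 3, 0, 2, 0, 3, 0, 2, 0]),
    ([2, 2, 2, 0, 2, 2, 1, 2, 2, 2, 0, 2, 2, 1, 2, 2, 2, 0, 2, 2, 1], [], [2, 2, 2, 0, 2, 2, 0, 2, 2, 2, 0, 2, 2, 0, 2, 2, 2, 0, 2, 2, 0]),
    ([2, 0, 2, 0, 2, 0, 2, 0, 2, 0, 2, 0, 2, 0, 2, 0], [], [2, 0, 2, 0, 2, 0, 2, 0, 2, 0, 2, 0, 2, 0, 2, 0]),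
    ([2, 2, 2, 0, 2, 0, 2, 2, 2, 0, 2, 0, 2, 2, 2, 0, 2, 0, 2, 2, 2, 0, 2, 0], [], [2, 2, 2, 0, 2, 0, 2, 2, 2, 0, 2, 0, 2, 2, 2, 0, 2, 0, 2, 2, 2, 0, 2, 0]),
    ([3, 3, 0, 2, 0, 2, 0, 3, 3, 0, 2, 2, 1, 3, 1, 3, 1, 2, 2, 1], [], [3, 3, 0, 2, 0, 2, 0, 3, 3, 0, 2, 2, 0, 3, 0, 3, 0, 2, 2, 0]),
    ([2, 2, 2, 2, 2, 2], [], [2, 2, 2, 2, 2, 2]),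
    ([2, 0, 3, 1, 2, 0, 3, 1, 2, 0, 3, 1], [2, 0], [3, 0, 2, 0, 3, 0, 2, 0, 3, 0, 2, 0]),
    ([3, 0, 2, 0, 3, 0, 2, 0, 2, 2, 2, 2, 2, 0, 2, 0], [], [3, 0, 2, 0, 3, 0, 2, 0, 2, 2, 2, 2, 2, 0, 2, 0]),
    ([2, 0, 2, 0, 2, 0, 2, 0, 2, 0, 2, 0, 2, 0, 2, 0], [], [2, 0, 2, 0, 2, 0, 2, 0, 2, 0, 2, 0, 2, 0, 2, 0]),
    ([3, 3, 0, 2, 0, 2, 0, 3, 3, 0, 2, 2, 1, 3, 1, 3, 1, 2, 2, 1], [3, 3, 0, 2, 0, 2, 0], [3, 3, 0, 2, 2, 0, 3, 0, 3, 0, 2, 2, 0, 3, 3, 0, 2, 0, 2, 0]),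
    ([3, 3, 3, 3, 3, 0, 2, 0, 2, 0, 2, 0, 2, 0, 2, 0, 2, 0, 2, 0], [], [3, 3, 3, 3, 3, 0, 2, 0, 2, 0, 2, 0, 2, 0, 2, 0, 2, 0, 2, 0]),
    ([3, 0, 3, 3, 3, 3, 3, 0, 3, 0, 2, 0, 2, 2, 2, 2, 2, 0, 2, 0], [], [3, 0, 3, 3, 3, 3, 3, 0, 3, 0, 2, 0, 2, 2, 2, 2, 2, 0, 2, 0]),
    ([3, 3, 3, 0, 2, 2, 0, 2, 2, 2, 0, 2, 2, 0, 2, 2, 2, 0, 2, 2, 0], [], [3, 3, 3, 0, 2, 2, 0, 2, 2, 2, 0, 2, 2, 0, 2, 2, 2, 0, 2, 2, 0]),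
    ([3, 3, 3, 0, 2, 2, 0, 3, 3, 3, 0, 2, 2, 0, 2, 2, 2, 0, 2, 2, 0], [], [3, 3, 3, 0, 2, 2, 0, 3, 3, 3, 0, 2, 2, 0, 2, 2, 2, 0, 2, 2, 0]),
    ([2, 2, 0, 3, 0, 2, 0, 3, 0, 2, 2, 0, 2, 0, 2, 0, 2, 0, 2, 0, 2, 0], [], [2, 2, 0, 3, 0, 2, 0, 3, 0, 2, 2, 0, 2, 0, 2, 0, 2, 0, 2, 0, 2, 0]),
    ([3, 3, 0, 2, 2, 0, 3, 0, 3, 0, 2, 2, 0, 2, 2, 2, 2, 0, 2, 0, 2, 0], [], [3, 3, 0, 2, 2, 0, 3, 0, 3, 0, 2, 2, 0, 2, 2, 2, 2, 0, 2, 0, 2, 0]),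
    ([3, 3, 0, 2, 0, 3, 0, 2, 0, 3, 0, 2, 2, 0, 3, 0, 2, 0, 3, 0, 2, 0], [], [3, 3, 0, 2, 0, 3, 0, 2, 0, 3, 0, 2, 2, 0, 3, 0, 2, 0, 3, 0, 2, 0]),
    ([2, 2, 2, 2, 0, 2, 2, 0, 3, 0, 3, 0, 2, 2, 0, 3, 3, 0, 2, 0, 2, 0], [], [2, 2, 2, 2, 0, 2, 2, 0, 3, 0, 3, 0, 2, 2, 0, 3, 3, 0, 2, 0, 2, 0]),
    ([3, 3, 3, 0, 3, 3, 3, 3, 0, 2, 2, 2, 0, 2, 2, 0, 2, 2, 2, 0, 2, 2, 0], [], [3, 3, 3, 0, 3, 3, 3, 3, 0, 2, 2, 2, 0, 2, 2, 0, 2, 2, 2, 0, 2, 2, 0]),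
    ([2, 2, 2, 0, 3, 3, 3, 3, 0, 3, 3, 3, 0, 2, 2, 0, 2, 2, 2, 0, 2, 2, 0], [], [2, 2, 2, 0, 3, 3, 3, 3, 0, 3, 3, 3, 0, 2, 2, 0, 2, 2, 2, 0, 2, 2, 0]),
    ([2, 2, 2, 0, 3, 3, 3, 3, 0, 3, 3, 3, 0, 2, 2, 0, 3, 3, 3, 0, 2, 2, 0], [], [2, 2, 2, 0, 3, 3, 3, 3, 0, 3, 3, 3, 0, 2, 2, 0, 3, 3, 3, 0, 2, 2, 0]),
    ([3, 3, 3, 0, 2, 2, 0, 3, 3, 3, 0, 3, 3, 3, 3, 0, 2, 2, 2, 0, 2, 2, 0], [], [3, 3, 3, 0, 2, 2, 0, 3, 3, 3, 0, 3, 3, 3, 3, 0, 2, 2, 2, 0, 2, 2, 0]),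
    ([3, 3, 3, 0, 2, 0, 3, 3, 3, 0, 2, 0, 2, 2, 2, 0, 2, 0, 2, 2, 2, 0, 2, 0], [], [3, 3, 3, 0, 2, 0, 3, 3, 3, 0, 2, 0, 2, 2, 2, 0, 2, 0, 2, 2, 2, 0, 2, 0]),
    ([3, 3, 3, 3, 3, 0, 2, 0, 2, 0, 2, 0, 3, 3, 3, 3, 3, 0, 2, 0, 2, 0, 2, 0], [], [3, 3, 3, 3, 3, 0, 2, 0, 2, 0, 2, 0, 3, 3, 3, 3, 3, 0, 2, 0, 2, 0, 2, 0]),
    ([3, 3, 3, 0, 2, 0, 2, 2, 2, 0, 2, 0, 2, 2, 2, 0, 2, 0, 2, 2, 2, 0, 2, 0], [], [3, 3, 3, 0, 2, 0, 2, 2, 2, 0, 2, 0, 2, 2, 2, 0, 2, 0, 2, 2, 2, 0, 2, 0]),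
    ([3, 3, 0, 3, 3, 3, 3, 0, 3, 0, 3, 0, 2, 2, 0, 2, 2, 2, 2, 0, 2, 0, 2, 0], [], [3, 3, 0, 3, 3, 3, 3, 0, 3, 0, 3, 0, 2, 2, 0, 2, 2, 2, 2, 0, 2, 0, 2, 0]),
    ([3, 3, 3, 0, 2, 0, 3, 3, 3, 0, 2, 0, 3, 3, 3, 0, 2, 0, 2, 2, 2, 0, 2, 0], [], [3, 3, 3, 0, 2, 0, 3, 3, 3, 0, 2, 0, 3, 3, 3, 0, 2, 0, 2, 2, 2, 0, 2, 0]),
    ([3, 3, 0, 2, 2, 0, 3, 0, 2, 2, 2, 2, 2, 0, 2, 2, 0, 3, 3, 0, 2, 0, 2, 0], [], [3, 3, 0, 2, 2, 0, 3, 0, 2, 2, 2, 2, 2, 0, 2, 2, 0, 3, 3, 0, 2, 0, 2, 0]),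
    ([3, 0, 2, 0, 3, 3, 0, 2, 2, 0, 3, 3, 0, 2, 0, 2, 0, 3, 3, 0, 2, 0, 2, 0], [], [3, 0, 2, 0, 3, 3, 0, 2, 2, 0, 3, 3, 0, 2, 0, 2, 0, 3, 3, 0, 2, 0, 2, 0]),
    ([3, 3, 0, 2, 0, 2, 0, 3, 3, 0, 2, 2, 0, 3, 3, 0, 2, 0, 3, 0, 2, 0, 2, 0], [], [3, 3, 0, 2, 0, 2, 0, 3, 3, 0, 2, 2, 0, 3, 3, 0, 2, 0, 3, 0, 2, 0, 2, 0]),
    ([3, 3, 0, 2, 2, 0, 2, 2, 2, 2, 2, 0, 3, 0, 2, 2, 0, 3, 3, 0, 2, 0, 2, 0], [], [3, 3, 0, 2, 2, 0, 2, 2, 2, 2, 2, 0, 3, 0, 2, 2, 0, 3, 3, 0, 2, 0, 2, 0]),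
    ([3, 3, 0, 2, 2, 0, 3, 0, 3, 0, 2, 0, 2, 0, 3, 0, 2, 0, 3, 0, 3, 0, 2, 0, 2, 0], [], [3, 3, 0, 2, 2, 0, 3, 0, 3, 0, 2, 0, 2, 0, 3, 0, 2, 0, 3, 0, 3, 0, 2, 0, 2, 0]),
    ([3, 3, 0, 2, 0, 2, 0, 3, 0, 2, 0, 3, 3, 0, 2, 2, 0, 2, 2, 2, 2, 0, 2, 0, 2, 0], [], [3, 3, 0, 2, 0, 2, 0, 3, 0, 2, 0, 3, 3, 0, 2, 2, 0, 2, 2, 2, 2, 0, 2, 0, 2, 0]),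
    ([3, 3, 0, 2, 0, 2, 0, 2, 2, 2, 2, 0, 2, 2, 0, 3, 3, 0, 2, 0, 3, 0, 2, 0, 2, 0], [], [3, 3, 0, 2, 0, 2, 0, 2, 2, 2, 2, 0, 2, 2, 0, 3, 3, 0, 2, 0, 3, 0, 2, 0, 2, 0]),
    ([3, 0, 2, 0, 2, 2, 0, 3, 0, 2, 2, 2, 0, 3, 0, 2, 2, 2, 0, 3, 0, 2, 2, 0, 2, 0], [], [3, 0, 2, 0, 2, 2, 0, 3, 0, 2, 2, 2, 0, 3, 0, 2, 2, 2, 0, 3, 0, 2, 2, 0, 2, 0]),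
    ([3, 3, 3, 0, 3, 3, 0, 2, 0, 2, 0, 3, 3, 0, 2, 2, 2, 0, 2, 0, 2, 0, 2, 0, 2, 0], [], [3, 3, 3, 0, 3, 3, 0, 2, 0, 2, 0, 3, 3, 0, 2, 2, 2, 0, 2, 0, 2, 0, 2, 0, 2, 0]),
    ([3, 0, 3, 0, 2, 2, 0, 3, 3, 0, 2, 0, 2, 0, 3, 0, 3, 0, 2, 0, 3, 0, 2, 0, 2, 0], [], [3, 0, 3, 0, 2, 2, 0, 3, 3, 0, 2, 0, 2, 0, 3, 0, 3, 0, 2, 0, 3, 0, 2, 0, 2, 0]),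
    ([3, 3, 3, 3, 3, 0, 2, 0, 2, 0, 2, 2, 0, 3, 0, 2, 0, 3, 0, 2, 2, 0, 2, 0, 2, 0], [], [3, 3, 3, 3, 3, 0, 2, 0, 2, 0, 2, 2, 0, 3, 0, 2, 0, 3, 0, 2, 2, 0, 2, 0, 2, 0]),
    ([3, 0, 2, 0, 2, 2, 0, 3, 0, 3, 3, 3, 0, 3, 0, 3, 3, 3, 0, 3, 0, 2, 2, 0, 2, 0], [], [3, 0, 2, 0, 2, 2, 0, 3, 0, 3, 3, 3, 0, 3, 0, 3, 3, 3, 0, 3, 0, 2, 2, 0, 2, 0]),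
    ([2, 2, 2, 0, 3, 3, 0, 2, 0, 2, 0, 3, 3, 0, 3, 3, 3, 0, 2, 0, 2, 0, 2, 0, 2, 0], [], [2, 2, 2, 0, 3, 3, 0, 2, 0, 2, 0, 3, 3, 0, 3, 3, 3, 0, 2, 0, 2, 0, 2, 0, 2, 0]),
    ([3, 0, 2, 0, 2, 2, 0, 3, 0, 3, 3, 3, 0, 3, 0, 2, 2, 2, 0, 3, 0, 2, 2, 0, 2, 0], [], [3, 0, 2, 0, 2, 2, 0, 3, 0, 3, 3, 3, 0, 3, 0, 2, 2, 2, 0, 3, 0, 2, 2, 0, 2, 0]),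
    ([3, 0, 2, 0, 2, 2, 0, 3, 0, 2, 2, 2, 0, 3, 0, 3, 3, 3, 0, 3, 0, 2, 2, 0, 2, 0], [], [3, 0, 2, 0, 2, 2, 0, 3, 0, 2, 2, 2, 0, 3, 0, 3, 3, 3, 0, 3, 0, 2, 2, 0, 2, 0])] (by decide +kernel) (rels := L37.rels) (by decide +kernel)) ⊥ (by simp [L37.subs]))
  have k37 := extend k36 (Xb1.mem (derive hx one_sq k36 [([3, 0, 0, 2, 0, 0], [], [0, 0]),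
    ([2, 2, 2, 2, 2, 2], [], [2, 2, 2, 2, 2, 2]),
    ([2, 0, 3, 1, 2, 0, 3, 1, 2, 0, 3, 1], [2, 0], [3, 0, 2, 0, 3, 0, 2, 0, 3, 0, 2, 0]),
    ([2, 2, 2, 0, 2, 2, 1, 2, 2, 2, 0, 2, 2, 1, 2, 2, 2, 0, 2, 2, 1], [], [2, 2, 2, 0, 2, 2, 0, 2, 2, 2, 0, 2, 2, 0, 2, 2, 2, 0, 2, 2, 0]),
    ([2, 0, 2, 0, 2, 0, 2, 0, 2, 0, 2, 0, 2, 0, 2, 0], [], [2, 0, 2, 0, 2, 0, 2, 0, 2, 0, 2, 0, 2, 0, 2, 0]),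
    ([2, 2, 2, 0, 2, 0, 2, 2, 2, 0, 2, 0, 2, 2, 2, 0, 2, 0, 2, 2, 2, 0, 2, 0], [], [2, 2, 2, 0, 2, 0, 2, 2, 2, 0, 2, 0, 2, 2, 2, 0, 2, 0, 2, 2, 2, 0, 2, 0]),
    ([3, 3, 0, 2, 0, 2, 0, 3, 3, 0, 2, 2, 1, 3, 1, 3, 1, 2, 2, 1], [], [3, 3, 0, 2, 0, 2, 0, 3, 3, 0, 2, 2, 0, 3, 0, 3, 0, 2, 2, 0]),
    ([2, 0, 3, 1, 2, 0, 3, 1, 2, 0, 3, 1], [2, 0], [3, 0, 2, 0, 3, 0, 2, 0, 3, 0, 2, 0]),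
    ([2, 0, 2, 0, 2, 0, 2, 0, 2, 0, 2, 0, 2, 0, 2, 0], [], [2, 0, 2, 0, 2, 0, 2, 0, 2, 0, 2, 0, 2, 0, 2, 0]),
    ([3, 3, 0, 2, 0, 2, 0, 3, 3, 0, 2, 2, 1, 3, 1, 3, 1, 2, 2, 1], [3, 3, 0, 2, 0, 2, 0], [3, 3, 0, 2, 2, 0, 3, 0, 3, 0, 2, 2, 0, 3, 3, 0, 2, 0, 2, 0]),
    ([3, 3, 3, 3, 3, 0, 2, 0, 2, 0, 2, 0, 2, 0, 2, 0, 2, 0, 2, 0], [], [3, 3, 3, 3, 3, 0, 2, 0, 2, 0, 2, 0, 2, 0, 2, 0, 2, 0, 2, 0]),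
    ([3, 3, 3, 0, 2, 2, 0, 2, 2, 2, 0, 2, 2, 0, 2, 2, 2, 0, 2, 2, 0], [], [3, 3, 3, 0, 2, 2, 0, 2, 2, 2, 0, 2, 2, 0, 2, 2, 2, 0, 2, 2, 0]),
    ([2, 2, 0, 3, 0, 2, 0, 3, 0, 2, 2, 0, 2, 0, 2, 0, 2, 0, 2, 0, 2, 0], [], [2, 2, 0, 3, 0, 2, 0, 3, 0, 2, 2, 0, 2, 0, 2, 0, 2, 0, 2, 0, 2, 0]),
    ([3, 3, 0, 2, 2, 0, 3, 0, 3, 0, 2, 2, 0, 2, 2, 2, 2, 0, 2, 0, 2, 0], [], [3, 3, 0, 2, 2, 0, 3, 0, 3, 0, 2, 2, 0, 2, 2, 2, 2, 0, 2, 0, 2, 0]),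
    ([3, 3, 0, 2, 0, 3, 0, 2, 0, 3, 0, 2, 2, 0, 3, 0, 2, 0, 3, 0, 2, 0], [], [3, 3, 0, 2, 0, 3, 0, 2, 0, 3, 0, 2, 2, 0, 3, 0, 2, 0, 3, 0, 2, 0]),
    ([2, 2, 2, 0, 3, 3, 3, 3, 0, 3, 3, 3, 0, 2, 2, 0, 2, 2, 2, 0, 2, 2, 0], [], [2, 2, 2, 0, 3, 3, 3, 3, 0, 3, 3, 3, 0, 2, 2, 0, 2, 2, 2, 0, 2, 2, 0]),
    ([2, 2, 2, 0, 3, 3, 3, 3, 0, 3, 3, 3, 0, 2, 2, 0, 3, 3, 3, 0, 2, 2, 0], [], [2, 2, 2, 0, 3, 3, 3, 3, 0, 3, 3, 3, 0, 2, 2, 0, 3, 3, 3, 0, 2, 2, 0]),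
    ([3, 3, 3, 0, 2, 0, 3, 3, 3, 0, 2, 0, 2, 2, 2, 0, 2, 0, 2, 2, 2, 0, 2, 0], [], [3, 3, 3, 0, 2, 0, 3, 3, 3, 0, 2, 0, 2, 2, 2, 0, 2, 0, 2, 2, 2, 0, 2, 0]),
    ([3, 3, 0, 3, 3, 3, 3, 0, 3, 0, 3, 0, 2, 2, 0, 2, 2, 2, 2, 0, 2, 0, 2, 0], [], [3, 3, 0, 3, 3, 3, 3, 0, 3, 0, 3, 0, 2, 2, 0, 2, 2, 2, 2, 0, 2, 0, 2, 0]),
    ([3, 3, 0, 2, 2, 0, 2, 2, 2, 2, 2, 0, 3, 0, 2, 2, 0, 3, 3, 0, 2, 0, 2, 0], [], [3, 3, 0, 2, 2, 0, 2, 2, 2, 2, 2, 0, 3, 0, 2, 2, 0, 3, 3, 0, 2, 0, 2, 0]),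
    ([3, 3, 0, 2, 0, 2, 0, 3, 0, 2, 0, 3, 3, 0, 2, 2, 0, 2, 2, 2, 2, 0, 2, 0, 2, 0], [], [3, 3, 0, 2, 0, 2, 0, 3, 0, 2, 0, 3, 3, 0, 2, 2, 0, 2, 2, 2, 2, 0, 2, 0, 2, 0]),
    ([3, 3, 3, 0, 3, 3, 0, 2, 0, 2, 0, 3, 3, 0, 2, 2, 2, 0, 2, 0, 2, 0, 2, 0, 2, 0], [], [3, 3, 3, 0, 3, 3, 0, 2, 0, 2, 0, 3, 3, 0, 2, 2, 2, 0, 2, 0, 2, 0, 2, 0, 2, 0]),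
    ([3, 0, 3, 0, 2, 2, 0, 3, 3, 0, 2, 0, 2, 0, 3, 0, 3, 0, 2, 0, 3, 0, 2, 0, 2, 0], [], [3, 0, 3, 0, 2, 2, 0, 3, 3, 0, 2, 0, 2, 0, 3, 0, 3, 0, 2, 0, 3, 0, 2, 0, 2, 0]),
    ([3, 0, 2, 0, 2, 2, 0, 3, 0, 3, 3, 3, 0, 3, 0, 3, 3, 3, 0, 3, 0, 2, 2, 0, 2, 0], [], [3, 0, 2, 0, 2, 2, 0, 3, 0, 3, 3, 3, 0, 3, 0, 3, 3, 3, 0, 3, 0, 2, 2, 0, 2, 0]),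
    ([2, 2, 2, 0, 3, 3, 0, 2, 0, 2, 0, 3, 3, 0, 3, 3, 3, 0, 2, 0, 2, 0, 2, 0, 2, 0], [], [2, 2, 2, 0, 3, 3, 0, 2, 0, 2, 0, 3, 3, 0, 3, 3, 3, 0, 2, 0, 2, 0, 2, 0, 2, 0]),
    ([3, 0, 2, 0, 2, 2, 0, 3, 0, 3, 3, 3, 0, 3, 0, 2, 2, 2, 0, 3, 0, 2, 2, 0, 2, 0], [], [3, 0, 2, 0, 2, 2, 0, 3, 0, 3, 3, 3, 0, 3, 0, 2, 2, 2, 0, 3, 0, 2, 2, 0, 2, 0]),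
    ([3, 0, 2, 0, 2, 2, 0, 3, 0, 2, 2, 2, 0, 3, 0, 3, 3, 3, 0, 3, 0, 2, 2, 0, 2, 0], [], [3, 0, 2, 0, 2, 2, 0, 3, 0, 2, 2, 2, 0, 3, 0, 3, 3, 3, 0, 3, 0, 2, 2, 0, 2, 0]),
    ([2, 2, 0, 3, 0, 3, 3, 3, 3, 3, 0, 3, 0, 2, 2, 0, 2, 0, 2, 0, 2, 0, 2, 0, 2, 0], [], [2, 2, 0, 3, 0, 3, 3, 3, 3, 3, 0, 3, 0, 2, 2, 0, 2, 0, 2, 0, 2, 0, 2, 0, 2, 0])] (by decide +kernel) (rels := Xb1.rels) (by decide +kernel)) ⊥ (by simp [Xb1.subs]))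
  have k38 := extend k37 (Xb2.mem (derive hx one_sq k37 [([3, 0, 0, 2, 0, 0], [], [0, 0]),
    ([2, 2, 2, 2, 2, 2], [], [2, 2, 2, 2, 2, 2]),
    ([2, 0, 3, 1, 2, 0, 3, 1, 2, 0, 3, 1], [2, 0], [3, 0, 2, 0, 3, 0, 2, 0, 3, 0, 2, 0]),
    ([2, 2, 2, 0, 2, 2, 1, 2, 2, 2, 0, 2, 2, 1, 2, 2, 2, 0, 2, 2, 1], [], [2, 2, 2, 0, 2, 2, 0, 2, 2, 2, 0, 2, 2, 0, 2, 2, 2, 0, 2, 2, 0]),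
    ([2, 0, 2, 0, 2, 0, 2, 0, 2, 0, 2, 0, 2, 0, 2, 0], [], [2, 0, 2, 0, 2, 0, 2, 0, 2, 0, 2, 0, 2, 0, 2, 0]),
    ([2, 2, 2, 0, 2, 0, 2, 2, 2, 0, 2, 0, 2, 2, 2, 0, 2, 0, 2, 2, 2, 0, 2, 0], [], [2, 2, 2, 0, 2, 0, 2, 2, 2, 0, 2, 0, 2, 2, 2, 0, 2, 0, 2, 2, 2, 0, 2, 0]),
    ([3, 3, 0, 2, 0, 2, 0, 3, 3, 0, 2, 2, 1, 3, 1, 3, 1, 2, 2, 1], [], [3, 3, 0, 2, 0, 2, 0, 3, 3, 0, 2, 2, 0, 3, 0, 3, 0, 2, 2, 0]),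
    ([2, 2, 2, 2, 2, 2], [], [2, 2, 2, 2, 2, 2]),
    ([3, 3, 0, 2, 0, 2, 0, 3, 3, 0, 2, 2, 1, 3, 1, 3, 1, 2, 2, 1], [3, 3, 0, 2, 0, 2, 0], [3, 3, 0, 2, 2, 0, 3, 0, 3, 0, 2, 2, 0, 3, 3, 0, 2, 0, 2, 0]),
    ([3, 3, 3, 3, 3, 0, 2, 0, 2, 0, 2, 0, 2, 0, 2, 0, 2, 0, 2, 0], [], [3, 3, 3, 3, 3, 0, 2, 0, 2, 0, 2, 0, 2, 0, 2, 0, 2, 0, 2, 0]),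
    ([2, 2, 0, 3, 0, 2, 0, 3, 0, 2, 2, 0, 2, 0, 2, 0, 2, 0, 2, 0, 2, 0], [], [2, 2, 0, 3, 0, 2, 0, 3, 0, 2, 2, 0, 2, 0, 2, 0, 2, 0, 2, 0, 2, 0]),
    ([3, 3, 0, 2, 2, 0, 3, 0, 3, 0, 2, 2, 0, 2, 2, 2, 2, 0, 2, 0, 2, 0], [], [3, 3, 0, 2, 2, 0, 3, 0, 3, 0, 2, 2, 0, 2, 2, 2, 2, 0, 2, 0, 2, 0]),
    ([2, 2, 2, 2, 0, 2, 2, 0, 3, 0, 3, 0, 2, 2, 0, 3, 3, 0, 2, 0, 2, 0], [], [2, 2, 2, 2, 0, 2, 2, 0, 3, 0, 3, 0, 2, 2, 0, 3, 3, 0, 2, 0, 2, 0]),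
    ([3, 3, 3, 0, 3, 3, 3, 3, 0, 2, 2, 2, 0, 2, 2, 0, 2, 2, 2, 0, 2, 2, 0], [], [3, 3, 3, 0, 3, 3, 3, 3, 0, 2, 2, 2, 0, 2, 2, 0, 2, 2, 2, 0, 2, 2, 0]),
    ([2, 2, 2, 0, 3, 3, 3, 3, 0, 3, 3, 3, 0, 2, 2, 0, 3, 3, 3, 0, 2, 2, 0], [], [2, 2, 2, 0, 3, 3, 3, 3, 0, 3, 3, 3, 0, 2, 2, 0, 3, 3, 3, 0, 2, 2, 0]),
    ([3, 3, 3, 0, 2, 2, 0, 3, 3, 3, 0, 3, 3, 3, 3, 0, 2, 2, 2, 0, 2, 2, 0], [], [3, 3, 3, 0, 2, 2, 0, 3, 3, 3, 0, 3, 3, 3, 3, 0, 2, 2, 2, 0, 2, 2, 0]),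
    ([3, 3, 3, 0, 2, 0, 2, 2, 2, 0, 2, 0, 2, 2, 2, 0, 2, 0, 2, 2, 2, 0, 2, 0], [], [3, 3, 3, 0, 2, 0, 2, 2, 2, 0, 2, 0, 2, 2, 2, 0, 2, 0, 2, 2, 2, 0, 2, 0]),
    ([3, 3, 3, 0, 2, 0, 3, 3, 3, 0, 2, 0, 3, 3, 3, 0, 2, 0, 2, 2, 2, 0, 2, 0], [], [3, 3, 3, 0, 2, 0, 3, 3, 3, 0, 2, 0, 3, 3, 3, 0, 2, 0, 2, 2, 2, 0, 2, 0]),
    ([3, 3, 0, 2, 2, 0, 2, 2, 2, 2, 2, 0, 3, 0, 2, 2, 0, 3, 3, 0, 2, 0, 2, 0], [], [3, 3, 0, 2, 2, 0, 2, 2, 2, 2, 2, 0, 3, 0, 2, 2, 0, 3, 3, 0, 2, 0, 2, 0]),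
    ([3, 0, 3, 0, 2, 2, 0, 3, 3, 0, 2, 0, 2, 0, 3, 0, 3, 0, 2, 0, 3, 0, 2, 0, 2, 0], [], [3, 0, 3, 0, 2, 2, 0, 3, 3, 0, 2, 0, 2, 0, 3, 0, 3, 0, 2, 0, 3, 0, 2, 0, 2, 0]),
    ([3, 3, 3, 3, 3, 0, 2, 0, 2, 0, 2, 2, 0, 3, 0, 2, 0, 3, 0, 2, 2, 0, 2, 0, 2, 0], [], [3, 3, 3, 3, 3, 0, 2, 0, 2, 0, 2, 2, 0, 3, 0, 2, 0, 3, 0, 2, 2, 0, 2, 0, 2, 0]),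
    ([3, 0, 2, 0, 2, 2, 0, 3, 0, 3, 3, 3, 0, 3, 0, 3, 3, 3, 0, 3, 0, 2, 2, 0, 2, 0], [], [3, 0, 2, 0, 2, 2, 0, 3, 0, 3, 3, 3, 0, 3, 0, 3, 3, 3, 0, 3, 0, 2, 2, 0, 2, 0]),
    ([2, 2, 2, 0, 3, 3, 0, 2, 0, 2, 0, 3, 3, 0, 3, 3, 3, 0, 2, 0, 2, 0, 2, 0, 2, 0], [], [2, 2, 2, 0, 3, 3, 0, 2, 0, 2, 0, 3, 3, 0, 3, 3, 3, 0, 2, 0, 2, 0, 2, 0, 2, 0]),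
    ([3, 0, 2, 2, 0, 2, 0, 2, 3, 0, 2, 2, 0, 2, 0, 2, 3, 0, 2, 2, 0, 2, 0, 2, 3, 0, 2, 2, 0, 2, 0, 2, 3, 0, 2, 2, 0, 2, 0, 2, 3, 0, 2, 2, 0, 2, 0, 2, 3, 0, 2, 2, 0, 2, 0, 2, 3, 0, 2, 2, 0, 2, 0, 2, 3, 0, 2, 2, 0, 2, 0, 2, 3, 0, 2, 2, 0, 2, 0, 2, 3, 0, 2, 2, 0, 2, 0, 2, 3, 0, 2, 2, 0, 2, 0, 2], [3, 0], [2, 2, 0, 2, 2, 2, 0, 2, 2, 2, 0, 2, 2, 2, 0, 2, 2, 2, 0, 2, 2, 2, 0, 2, 2, 2, 0, 2, 2, 2, 0, 2, 2, 2, 0, 2, 2, 2, 0, 2, 2, 2, 0, 2, 2, 2, 0, 2]),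
    ([3, 0, 3, 0, 3, 3, 0, 2, 0, 3, 0, 2, 2, 0, 2, 0, 2, 0, 3, 0, 3, 0, 3, 3, 0, 2, 0, 3, 0, 2, 2, 0, 2, 0, 2, 0], [], [3, 0, 3, 0, 3, 3, 0, 2, 0, 3, 0, 2, 2, 0, 2, 0, 2, 0, 3, 0, 3, 0, 3, 3, 0, 2, 0, 3, 0, 2, 2, 0, 2, 0, 2, 0])] (by decide +kernel) (rels := Xb2.rels) (by decide +kernel)) ⊥ (by simp [Xb2.subs]))
  have k39 := extend k38 (X7.mem (derive hx one_sq k38 [([3, 0, 0, 2, 0, 0], [], [0, 0]),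
    ([2, 2, 2, 2, 2, 2], [], [2, 2, 2, 2, 2, 2]),
    ([2, 0, 3, 1, 2, 0, 3, 1, 2, 0, 3, 1], [2, 0], [3, 0, 2, 0, 3, 0, 2, 0, 3, 0, 2, 0]),
    ([2, 2, 2, 0, 2, 2, 1, 2, 2, 2, 0, 2, 2, 1, 2, 2, 2, 0, 2, 2, 1], [], [2, 2, 2, 0, 2, 2, 0, 2, 2, 2, 0, 2, 2, 0, 2, 2, 2, 0, 2, 2, 0]),
    ([2, 0, 2, 0, 2, 0, 2, 0, 2, 0, 2, 0, 2, 0, 2, 0], [], [2, 0, 2, 0, 2, 0, 2, 0, 2, 0, 2, 0, 2, 0, 2, 0]),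
    ([2, 2, 2, 0, 2, 0, 2, 2, 2, 0, 2, 0, 2, 2, 2, 0, 2, 0, 2, 2, 2, 0, 2, 0], [], [2, 2, 2, 0, 2, 0, 2, 2, 2, 0, 2, 0, 2, 2, 2, 0, 2, 0, 2, 2, 2, 0, 2, 0]),
    ([3, 3, 0, 2, 0, 2, 0, 3, 3, 0, 2, 2, 1, 3, 1, 3, 1, 2, 2, 1], [], [3, 3, 0, 2, 0, 2, 0, 3, 3, 0, 2, 2, 0, 3, 0, 3, 0, 2, 2, 0]),
    ([2, 2, 2, 2, 2, 2], [], [2, 2, 2, 2, 2, 2]),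
    ([2, 0, 3, 1, 2, 0, 3, 1, 2, 0, 3, 1], [2, 0], [3, 0, 2, 0, 3, 0, 2, 0, 3, 0, 2, 0]),
    ([3, 0, 2, 0, 3, 0, 2, 0, 2, 2, 2, 2, 2, 0, 2, 0], [], [3, 0, 2, 0, 3, 0, 2, 0, 2, 2, 2, 2, 2, 0, 2, 0]),
    ([2, 0, 2, 0, 2, 0, 2, 0, 2, 0, 2, 0, 2, 0, 2, 0], [], [2, 0, 2, 0, 2, 0, 2, 0, 2, 0, 2, 0, 2, 0, 2, 0]),
    ([3, 3, 3, 0, 2, 2, 0, 2, 2, 2, 0, 2, 2, 0, 2, 2, 2, 0, 2, 2, 0], [], [3, 3, 3, 0, 2, 2, 0, 2, 2, 2, 0, 2, 2, 0, 2, 2, 2, 0, 2, 2, 0]),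
    ([3, 3, 3, 0, 2, 2, 0, 3, 3, 3, 0, 2, 2, 0, 2, 2, 2, 0, 2, 2, 0], [], [3, 3, 3, 0, 2, 2, 0, 3, 3, 3, 0, 2, 2, 0, 2, 2, 2, 0, 2, 2, 0]),
    ([2, 2, 0, 3, 0, 2, 0, 3, 0, 2, 2, 0, 2, 0, 2, 0, 2, 0, 2, 0, 2, 0], [], [2, 2, 0, 3, 0, 2, 0, 3, 0, 2, 2, 0, 2, 0, 2, 0, 2, 0, 2, 0, 2, 0]),
    ([3, 3, 0, 2, 2, 0, 3, 0, 3, 0, 2, 2, 0, 2, 2, 2, 2, 0, 2, 0, 2, 0], [], [3, 3, 0, 2, 2, 0, 3, 0, 3, 0, 2, 2, 0, 2, 2, 2, 2, 0, 2, 0, 2, 0]),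
    ([3, 3, 3, 0, 3, 3, 3, 3, 0, 2, 2, 2, 0, 2, 2, 0, 2, 2, 2, 0, 2, 2, 0], [], [3, 3, 3, 0, 3, 3, 3, 3, 0, 2, 2, 2, 0, 2, 2, 0, 2, 2, 2, 0, 2, 2, 0]),
    ([2, 2, 2, 0, 3, 3, 3, 3, 0, 3, 3, 3, 0, 2, 2, 0, 3, 3, 3, 0, 2, 2, 0], [], [2, 2, 2, 0, 3, 3, 3, 3, 0, 3, 3, 3, 0, 2, 2, 0, 3, 3, 3, 0, 2, 2, 0]),
    ([3, 3, 3, 0, 2, 2, 0, 3, 3, 3, 0, 3, 3, 3, 3, 0, 2, 2, 2, 0, 2, 2, 0], [], [3, 3, 3, 0, 2, 2, 0, 3, 3, 3, 0, 3, 3, 3, 3, 0, 2, 2, 2, 0, 2, 2, 0]),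
    ([3, 3, 3, 0, 2, 0, 2, 2, 2, 0, 2, 0, 2, 2, 2, 0, 2, 0, 2, 2, 2, 0, 2, 0], [], [3, 3, 3, 0, 2, 0, 2, 2, 2, 0, 2, 0, 2, 2, 2, 0, 2, 0, 2, 2, 2, 0, 2, 0]),
    ([3, 3, 0, 3, 3, 3, 3, 0, 3, 0, 3, 0, 2, 2, 0, 2, 2, 2, 2, 0, 2, 0, 2, 0], [], [3, 3, 0, 3, 3, 3, 3, 0, 3, 0, 3, 0, 2, 2, 0, 2, 2, 2, 2, 0, 2, 0, 2, 0]),
    ([3, 3, 0, 2, 2, 0, 3, 0, 2, 2, 2, 2, 2, 0, 2, 2, 0, 3, 3, 0, 2, 0, 2, 0], [], [3, 3, 0, 2, 2, 0, 3, 0, 2, 2, 2, 2, 2, 0, 2, 2, 0, 3, 3, 0, 2, 0, 2, 0]),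
    ([3, 0, 2, 0, 3, 3, 0, 2, 2, 0, 3, 3, 0, 2, 0, 2, 0, 3, 3, 0, 2, 0, 2, 0], [], [3, 0, 2, 0, 3, 3, 0, 2, 2, 0, 3, 3, 0, 2, 0, 2, 0, 3, 3, 0, 2, 0, 2, 0]),
    ([3, 3, 0, 2, 0, 2, 0, 3, 3, 0, 2, 2, 0, 3, 3, 0, 2, 0, 3, 0, 2, 0, 2, 0], [], [3, 3, 0, 2, 0, 2, 0, 3, 3, 0, 2, 2, 0, 3, 3, 0, 2, 0, 3, 0, 2, 0, 2, 0]),
    ([3, 3, 0, 2, 0, 2, 0, 3, 0, 2, 0, 3, 3, 0, 2, 2, 0, 2, 2, 2, 2, 0, 2, 0, 2, 0], [], [3, 3, 0, 2, 0, 2, 0, 3, 0, 2, 0, 3, 3, 0, 2, 2, 0, 2, 2, 2, 2, 0, 2, 0, 2, 0]),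
    ([3, 3, 0, 2, 0, 2, 0, 2, 2, 2, 2, 0, 2, 2, 0, 3, 3, 0, 2, 0, 3, 0, 2, 0, 2, 0], [], [3, 3, 0, 2, 0, 2, 0, 2, 2, 2, 2, 0, 2, 2, 0, 3, 3, 0, 2, 0, 3, 0, 2, 0, 2, 0]),
    ([3, 0, 2, 0, 2, 2, 0, 3, 0, 2, 2, 2, 0, 3, 0, 2, 2, 2, 0, 3, 0, 2, 2, 0, 2, 0], [], [3, 0, 2, 0, 2, 2, 0, 3, 0, 2, 2, 2, 0, 3, 0, 2, 2, 2, 0, 3, 0, 2, 2, 0, 2, 0]),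
    ([3, 3, 3, 0, 3, 3, 0, 2, 0, 2, 0, 3, 3, 0, 2, 2, 2, 0, 2, 0, 2, 0, 2, 0, 2, 0], [], [3, 3, 3, 0, 3, 3, 0, 2, 0, 2, 0, 3, 3, 0, 2, 2, 2, 0, 2, 0, 2, 0, 2, 0, 2, 0]),
    ([3, 0, 3, 0, 2, 2, 0, 3, 3, 0, 2, 0, 2, 0, 3, 0, 3, 0, 2, 0, 3, 0, 2, 0, 2, 0], [], [3, 0, 3, 0, 2, 2, 0, 3, 3, 0, 2, 0, 2, 0, 3, 0, 3, 0, 2, 0, 3, 0, 2, 0, 2, 0]),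
    ([3, 0, 3, 0, 3, 3, 0, 2, 0, 3, 0, 2, 2, 0, 2, 0, 2, 0, 3, 0, 3, 0, 3, 3, 0, 2, 0, 3, 0, 2, 2, 0, 2, 0, 2, 0], [], [3, 0, 3, 0, 3, 3, 0, 2, 0, 3, 0, 2, 2, 0, 2, 0, 2, 0, 3, 0, 3, 0, 3, 3, 0, 2, 0, 3, 0, 2, 2, 0, 2, 0, 2, 0]),
    ([3, 0, 3, 0, 3, 3, 3, 0, 3, 3, 0, 2, 0, 3, 0, 2, 2, 0, 2, 2, 2, 0, 2, 0, 2, 0, 3, 0, 3, 0, 3, 3, 3, 0, 3, 3, 0, 2, 0, 3, 0, 2, 2, 0, 2, 2, 2, 0, 2, 0, 2, 0], [], [3, 0, 3, 0, 3, 3, 3, 0, 3, 3, 0, 2, 0, 3, 0, 2, 2, 0, 2, 2, 2, 0, 2, 0, 2, 0, 3, 0, 3, 0, 3, 3, 3, 0, 3, 3, 0, 2, 0, 3, 0, 2, 2, 0, 2, 2, 2, 0, 2, 0, 2, 0])] (by decide +kernel) (rels := X7.rels) (by decide +kernel)) ⊥ (by simp [X7.subs]))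
  refine ⟨derive hx one_sq k39 [([3, 0, 0, 2, 0, 0], [], [0, 0]),
    ([2, 2, 2, 2, 2, 2], [], [2, 2, 2, 2, 2, 2]),
    ([2, 0, 3, 1, 2, 0, 3, 1, 2, 0, 3, 1], [2, 0], [3, 0, 2, 0, 3, 0, 2, 0, 3, 0, 2, 0]),
    ([2, 2, 2, 0, 2, 2, 1, 2, 2, 2, 0, 2, 2, 1, 2, 2, 2, 0, 2, 2, 1], [], [2, 2, 2, 0, 2, 2, 0, 2, 2, 2, 0, 2, 2, 0, 2, 2, 2, 0, 2, 2, 0]),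
    ([2, 0, 2, 0, 2, 0, 2, 0, 2, 0, 2, 0, 2, 0, 2, 0], [], [2, 0, 2, 0, 2, 0, 2, 0, 2, 0, 2, 0, 2, 0, 2, 0]),
    ([2, 2, 2, 0, 2, 0, 2, 2, 2, 0, 2, 0, 2, 2, 2, 0, 2, 0, 2, 2, 2, 0, 2, 0], [], [2, 2, 2, 0, 2, 0, 2, 2, 2, 0, 2, 0, 2, 2, 2, 0, 2, 0, 2, 2, 2, 0, 2, 0]),
    ([3, 3, 0, 2, 0, 2, 0, 3, 3, 0, 2, 2, 1, 3, 1, 3, 1, 2, 2, 1], [], [3, 3, 0, 2, 0, 2, 0, 3, 3, 0, 2, 2, 0, 3, 0, 3, 0, 2, 2, 0])] (by decide +kernel) (by decide +kernel), fun w hw => ?_⟩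
  rw [← ev_subW]
  exact derive hx one_sq k39 [([3, 0, 0, 2, 0, 0], [], [0, 0]),
    ([3, 0, 2, 2, 0, 2, 0, 2, 3, 0, 2, 2, 0, 2, 0, 2, 3, 0, 2, 2, 0, 2, 0, 2, 3, 0, 2, 2, 0, 2, 0, 2, 3, 0, 2, 2, 0, 2, 0, 2, 3, 0, 2, 2, 0, 2, 0, 2, 3, 0, 2, 2, 0, 2, 0, 2, 3, 0, 2, 2, 0, 2, 0, 2, 3, 0, 2, 2, 0, 2, 0, 2, 3, 0, 2, 2, 0, 2, 0, 2, 3, 0, 2, 2, 0, 2, 0, 2, 3, 0, 2, 2, 0, 2, 0, 2], [], [3, 0, 2, 2, 0, 2, 0, 2, 3, 0, 2, 2, 0, 2, 0, 2, 3, 0, 2, 2, 0, 2, 0, 2, 3, 0, 2, 2, 0, 2, 0, 2, 3, 0, 2, 2, 0, 2, 0, 2, 3, 0, 2, 2, 0, 2, 0, 2, 3, 0, 2, 2, 0, 2, 0, 2, 3, 0, 2, 2, 0, 2, 0, 2, 3, 0, 2, 2, 0, 2, 0, 2, 3, 0, 2, 2, 0, 2, 0, 2, 3, 0, 2, 2, 0, 2, 0, 2, 3, 0, 2, 2, 0, 2,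 0, 2]),
    ([3, 0, 3, 0, 3, 3, 0, 2, 0, 3, 0, 2, 2, 0, 2, 0, 2, 0, 3, 0, 3, 0, 3, 3, 0, 2, 0, 3, 0, 2, 2, 0, 2, 0, 2, 0], [], [3, 1, 3, 1, 3, 3, 1, 2, 0, 3, 0, 2, 2, 0, 2, 0, 2, 0, 3, 1, 3, 1, 3, 3, 1, 2, 0, 3, 0, 2, 2, 0, 2, 0, 2, 0]),
    ([3, 0, 3, 0, 3, 3, 3, 0, 3, 3, 0, 2, 0, 3, 0, 2, 2, 0, 2, 2, 2, 0, 2, 0, 2, 0, 3, 0, 3, 0, 3, 3, 3, 0, 3, 3, 0, 2, 0, 3, 0, 2, 2, 0, 2, 2, 2, 0, 2, 0, 2, 0], [], [3, 1, 3, 1, 3, 3, 1, 2, 3, 1, 3, 1, 3, 3, 1, 2, 0, 3, 0, 2, 2, 0, 2, 0, 2, 3, 0, 2, 2, 0, 2, 0, 2, 0, 3, 1, 3, 1, 3, 3, 1, 2, 3, 1, 3, 1, 3, 3, 1, 2, 0, 3, 0, 2, 2, 0, 2, 0, 2, 3, 0, 2, 2, 0, 2, 0, 2, 0]),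
    ([3, 0, 2, 2, 0, 2, 0, 2, 0, 3, 0, 2, 2, 0, 2, 0, 2, 0, 3, 0, 2, 2, 0, 2, 0, 2, 0, 3, 0, 2, 2, 0, 2, 0, 2, 0, 3, 0, 2, 2, 0, 2, 0, 2, 0, 3, 0, 2, 2, 0, 2, 0, 2, 0, 3, 0, 2, 2, 0, 2, 0, 2, 0], [], [3, 0, 2, 2, 0, 2, 0, 2, 0, 3, 0, 2, 2, 0, 2, 0, 2, 0, 3, 0, 2, 2, 0, 2, 0, 2, 0, 3, 0, 2, 2, 0, 2, 0, 2, 0, 3, 0, 2, 2, 0, 2, 0, 2, 0, 3, 0, 2, 2, 0, 2, 0, 2, 0, 3, 0, 2, 2, 0, 2, 0, 2, 0])] (by decide +kernel) (rels := T420.rels.map fun r => r.flatMap subW)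
    (by decide +kernel) _ (List.mem_map.mpr ⟨w, hw, rfl⟩)

theorem rels352 (hx : x * x = 1) (hz : z * z = 1)
    (hK : ∀ w ∈ srcR0 ++ [[0, 0]] ++ [srcR5] ++ srcRz, ev (gen x y z) w = 1) :
    ∀ w ∈ T352.rels, ev (gen x y z) w = 1 := by
  have hK' : ∀ w ∈ [] :: (srcR0 ++ [[0, 0]] ++ [srcR5] ++ srcRz), ev (gen x y z) w = 1 := by
    intro w hw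
    rcases List.mem_cons.mp hw with rfl | hw
    · rfl
    · exact hK w hw
  exact derive hx hz hK' [([], [], [0, 0]),
    ([2, 2, 2, 2, 2, 2], [], [2, 2, 2, 2, 2, 2]),
    ([2, 0, 3, 1, 2, 0, 3, 1, 2, 0, 3, 1], [2, 0], [3, 0, 2, 0, 3, 0, 2, 0, 3, 0, 2, 0]),
    ([2, 2, 2, 0, 2, 2, 1, 2, 2, 2, 0, 2, 2, 1, 2, 2, 2, 0, 2, 2, 1], [], [2, 2, 2, 0, 2, 2, 0, 2, 2, 2, 0, 2, 2, 0, 2, 2, 2, 0, 2, 2, 0]),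
    ([2, 0, 2, 0, 2, 0, 2, 0, 2, 0, 2, 0, 2, 0, 2, 0], [], [2, 0, 2, 0, 2, 0, 2, 0, 2, 0, 2, 0, 2, 0, 2, 0]),
    ([2, 2, 2, 0, 2, 0, 2, 2, 2, 0, 2, 0, 2, 2, 2, 0, 2, 0, 2, 2, 2, 0, 2, 0], [], [2, 2, 2, 0, 2, 0, 2, 2, 2, 0, 2, 0, 2, 2, 2, 0, 2, 0, 2, 2, 2, 0, 2, 0]),
    ([3, 3, 0, 2, 0, 2, 0, 3, 3, 0, 2, 2, 1, 3, 1, 3, 1, 2, 2, 1], [], [3, 3, 0, 2, 0, 2, 0, 3, 3, 0, 2, 2, 0, 3, 0, 3, 0, 2, 2, 0]),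
    ([], [], [4, 4]),
    ([], [], [5, 4]),
    ([0, 4, 0, 4], [], [0, 4, 0, 4]),
    ([1, 1, 3, 0, 2, 2, 0, 2, 0, 2, 4, 3, 1, 3, 1, 3, 3, 1, 2, 5], [3, 0, 2, 2, 0, 2, 0, 2, 4], [3, 0, 3, 0, 3, 3, 0, 2, 4, 3, 0, 2, 2, 0, 2, 0, 2, 4]),
    ([0, 2, 0, 2, 0, 2, 2, 2, 4, 3, 3, 3, 1, 3, 1, 3, 0, 2, 0, 2, 0, 2, 2, 2, 4, 3, 3, 3, 1, 3, 1, 3, 0, 2, 0, 2, 0, 2, 2, 2, 4, 3, 3, 3, 1, 3, 1, 3, 4], [], [0, 2, 0, 2, 0, 2, 2, 2, 4, 3, 3, 3, 0, 3, 0, 3, 0, 2, 0, 2, 0, 2, 2, 2, 4, 3, 3, 3, 0, 3, 0, 3, 0, 2, 0, 2, 0, 2, 2, 2, 4, 3, 3, 3, 0, 3, 0, 3, 4])] (by decide +kernel) (by decide +kernel)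

end Chain
end HN
end H39
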