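import Cfsg.Agent.H39.HN.X4.P0

/-!
A derivation (generated data).
-/

set_option autoImplicit false
set_option maxRecDepth 100000
set_option linter.all false
set_option Elab.async false

namespace H39
namespace HN
namespace X4

open H93.CosetI

noncomputable section

variable {Γ : Type*} [Group Γ] {a b c : Γ}

def targets : List (List ℕ) := [[0,0,0,0]]

def paths : List (List ℕ) := [[57,335,18,20]]

theorem final : finalsOK data 168 paths targets = true := by decide +kernel

theorem holds_0 {H : Subgroup Γ} : ∀ i < 0, data.Holds (gen a b c) ((1 : Γ) : Γ ⧸ H) i :=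
  fun i hi => absurd hi (Nat.not_lt_zero i)

theorem holds_1 {H : Subgroup Γ} (h : data.Hyp (gen a b c) ((1 : Γ) : Γ ⧸ H)) :
    ∀ i < 168, data.Holds (gen a b c) ((1 : Γ) : Γ ⧸ H) i :=
  Deriv.steps_sound h st0 ok0 holds_0

/-- the targets lie in any subgroup that contains the subgroup words -/
theorem mem (hr : ∀ w ∈ rels, ev (gen a b c) w = 1) (H : Subgroup Γ)
    (hs : ∀ w ∈ subs, ev (gen a b c) w ∈ H) : ∀ w ∈ targets, ev (gen a b c) w ∈ H := fun w hw =>
  mem_of_fix (fix_of_finals
    (quotHyp (P := data) (by decide) rfl iv_lt_four H hr hs)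
    (holds_1 (quotHyp (P := data) (by decide) rfl iv_lt_four H hr hs)) final w hw)

end

end X4
end HN
end H39
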