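import Cfsg.Agent.H39.HN.Step
import Cfsg.Agent.H39.HN.X4
import Cfsg.Agent.H39.HN.Chain
import Cfsg.Agent.H39.HN.T50
import Cfsg.Agent.H39.HN.T420
import Cfsg.Agent.H39.HN.T352

/-!
A group generated by x, y, z satisfying the ten relators without t is finite of order at most
177408000.
-/

set_option autoImplicit false
set_option maxRecDepth 100000

namespace H39
namespace HN

open H93.CosetI

variable {Γ : Type*} [Group Γ] {x y z : Γ}

theorem ev_replicate {G : Type*} [Group G] (f : ℕ → G) (g n : ℕ) :
    ev f (List.replicate n g) = f g ^ n := by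
  induction n with
  | zero => simp [ev]
  | succ n ih => rw [List.replicate_succ, ev, ih, pow_succ]

theorem x_four (h : H77.HN.XYZRel x y z) : x ^ 4 = 1 := by
  have h0 := srcR0_eq_one h (1 : Γ)
  have hr : ∀ w ∈ X4.rels, ev (gen x y 1) w = 1 := by
    have hsub : ∀ w ∈ X4.rels, w ∈ srcR0 := by decide +kernel
    exact fun w hw => h0 w (hsub w hw)
  have hm := X4.mem hr ⊥ (by simp [X4.subs]) [0, 0, 0, 0] (by simp [X4.targets])
  rw [Subgroup.mem_bot] at hm
  simpa [ev, gen, pow_succ, mul_assoc] using hm

/-- the bound when x is an involution -/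
theorem bound_sq (h : H77.HN.XYZRel x y z) (hx : x * x = 1) :
    Finite (Subgroup.closure ({x, y, z} : Set Γ)) ∧
      Nat.card (Subgroup.closure ({x, y, z} : Set Γ)) ≤ 88704000 := by
  have hxi : x⁻¹ = x := inv_eq_of_mul_eq_one_right hx
  have hzz : z * z = 1 := by rw [← pow_two]; exact h.z_two
  have hzi : z⁻¹ = z := inv_eq_of_mul_eq_one_right hzz
  have hone : (1 : Γ) * 1 = 1 := one_mul 1
  have hzx : z * x = x * z := by
    have h2 := h.zx_two
    rw [pow_two] at h2
    calc z * x = (z * x)⁻¹ := eq_inv_of_mul_eq_one_left h2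
      _ = x * z := by rw [mul_inv_rev, hxi, hzi]
  set w := wEl x y with hw
  have hzw : z * w = w * z := by
    have h2 : z⁻¹ * w⁻¹ * z * w * ((x ^ 2)⁻¹) = 1 := h.z_comm
    rw [pow_two, hx, inv_one, mul_one] at h2
    calc z * w = (w * z) * (z⁻¹ * w⁻¹ * z * w) := by group
      _ = w * z := by rw [h2, mul_one]
  -- the subgroup of x and w
  set M : Subgroup Γ := Subgroup.closure ({x, w} : Set Γ) with hM
  have hxM : x ∈ M := Subgroup.subset_closure (by simp)
  have hwM : w ∈ M := Subgroup.subset_closure (by simp)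
  have hsubM : ∀ u ∈ [[0], wWord], ev (gen x y 1) u ∈ M := by
    intro u hu
    simp only [List.mem_cons, List.not_mem_nil, or_false] at hu
    rcases hu with rfl | rfl
    · simpa [ev, gen] using hxM
    · rw [ev_wWord]; exact hwM
  have h0 := srcR0_eq_one h (1 : Γ)
  have hmem := Chain.mem_q hx h0 M hsubM
  have hq : x * qEl x y * x = qEl x y := by
    have e1 := hmem qWord (by simp)
    have e2 := hmem vqvWord (by simp)
    have e3 := hmem vxqxvWord (by simp)
    rw [ev_qWord] at e1
    rw [ev_vqvWord] at e2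
    rw [ev_vxqxvWord] at e3
    exact x_comm_q h hx hzw hzx e1 e2 e3
  have hR5 := srcR5_eq_one (y := y) (1 : Γ) hx hq
  -- the subgroup of x and w has at most 5040 elements
  obtain ⟨hT50, hT420⟩ := Chain.rels hx h0 hR5
  have hw12 : w ^ 12 = 1 := by
    have e := hT420 (List.replicate 12 2) (by decide +kernel)
    rwa [ev_replicate] at e
  have hfinw : IsOfFinOrder w := isOfFinOrder_iff_pow_eq_one.mpr ⟨12, by norm_num, hw12⟩
  have : Finite (Subgroup.zpowers w) := (finite_zpowers.mpr hfinw).to_subtype
  have hcw : Nat.card (Subgroup.zpowers w) ≤ 12 := by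
    rw [Nat.card_zpowers]
    exact orderOf_le_of_pow_eq_one (by norm_num) hw12
  have hfixW : ∀ u ∈ T420.targets, ev (gen x w 1) u ∈ Subgroup.zpowers w :=
    T420.mem hT420 _ (fun u hu => by
      simp only [T420.subs, List.mem_cons, List.not_mem_nil, or_false] at hu
      subst hu
      simp only [ev, gen, one_mul]
      exact Subgroup.mem_zpowers w)
  obtain ⟨hMfin, hMcard⟩ := card_le_of_edges (Subgroup.zpowers w) hcw (n := 420)
    (by decide +kernel : T420.reps.length = 420) T420.edges_complete hfixW
    ({x, w} : Set Γ) (by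
      intro s hs
      rcases hs with rfl | hs
      · exact ⟨⟨0, by simp, rfl⟩, 0, by simp, hxi.symm⟩
      · obtain rfl : s = w := hs
        exact ⟨⟨2, by simp, rfl⟩, 3, by simp, rfl⟩)
  rw [← hM] at hMfin hMcard
  -- the subgroup of x and y
  have hfix50 : ∀ u ∈ T50.targets, ev (gen x y 1) u ∈ M :=
    T50.mem hT50 M (fun u hu => hsubM u (by
      have hh : ∀ u ∈ T50.subs, u ∈ [[0], wWord] := by decide +kernel
      exact hh u hu))
  obtain ⟨hUfin, hUcard⟩ := card_le_of_edges M hMcard (n := 50)
    (by decide +kernel : T50.reps.length = 50) T50.edges_complete hfix50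
    ({x, y} : Set Γ) (by
      intro s hs
      rcases hs with rfl | hs
      · exact ⟨⟨0, by simp, rfl⟩, 0, by simp, hxi.symm⟩
      · obtain rfl : s = y := hs
        exact ⟨⟨2, by simp, rfl⟩, 3, by simp, rfl⟩)
  -- the whole subgroup
  have hKz : ∀ u ∈ srcR0 ++ [[0, 0]] ++ [srcR5] ++ srcRz, ev (gen x y z) u = 1 := by
    intro u hu
    simp only [List.mem_append, List.mem_singleton] at hu
    rcases hu with ((hu | hu) | hu) | hu
    · exact srcR0_eq_one h z u hu
    · subst hu; simpa [ev, gen] using hx
    · subst hu; exact srcR5_eq_one z hx hq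
    · exact srcRz_eq_one h u hu
  have hTz := Chain.rels352 hx hzz hKz
  have hfix352 : ∀ u ∈ T352.targets, ev (gen x y z) u ∈ Subgroup.closure ({x, y} : Set Γ) :=
    T352.mem hTz _ (fun u hu => by
      simp only [T352.subs, List.mem_cons, List.not_mem_nil, or_false] at hu
      rcases hu with rfl | rfl
      · simpa [ev, gen] using Subgroup.subset_closure (show x ∈ ({x, y} : Set Γ) by simp)
      · simpa [ev, gen] using Subgroup.subset_closure (show y ∈ ({x, y} : Set Γ) by simp))
  exact card_le_of_edges _ hUcard (n := 352)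
    (by decide +kernel : T352.reps.length = 352) T352.edges_complete hfix352
    ({x, y, z} : Set Γ) (by
      intro s hs
      rcases hs with rfl | rfl | hs
      · exact ⟨⟨0, by simp, rfl⟩, 0, by simp, hxi.symm⟩
      · exact ⟨⟨2, by simp, rfl⟩, 3, by simp, rfl⟩
      · obtain rfl : s = z := hs
        exact ⟨⟨4, by simp, rfl⟩, 4, by simp, hzi.symm⟩)

theorem map_rel {Δ : Type*} [Group Δ] (f : Γ →* Δ) (h : H77.HN.XYZRel x y z) :
    H77.HN.XYZRel (f x) (f y) (f z) := by
  constructor <;> simp only [← map_inv, ← map_pow, ← map_mul]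
  · rw [h.y_six, map_one]
  · rw [h.x2_y, map_one]
  · rw [h.comm_three, map_one]
  · rw [h.mixed_three, map_one]
  · rw [h.xy_eight, map_one]
  · rw [h.xyxy3_four, map_one]
  · rw [h.z_two, map_one]
  · rw [h.zx_two, map_one]
  · rw [h.z_comm, map_one]
  · rw [h.z_conj, map_one]

/-- the relators without t bound the subgroup of x, y, z -/
theorem card_closure_le {Γ : Type*} [Group Γ] {x y z : Γ} (h : H77.HN.XYZRel x y z) :
    Finite (Subgroup.closure ({x, y, z} : Set Γ)) ∧
      Nat.card (Subgroup.closure ({x, y, z} : Set Γ)) ≤ 177408000 := by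
  set K := Subgroup.closure ({x, y, z} : Set Γ) with hK
  obtain ⟨hc, hcx, hcy, hcz⟩ := sq_central h (x_four h)
  have hxK : x ∈ K := Subgroup.subset_closure (by simp)
  have hyK : y ∈ K := Subgroup.subset_closure (by simp)
  have hzK : z ∈ K := Subgroup.subset_closure (by simp)
  let cK : K := ⟨x * x, mul_mem hxK hxK⟩
  have hcen : ∀ g ∈ K, Commute (x * x) g := by
    intro g hg
    induction hg using Subgroup.closure_induction with
    | mem s hs => rcases hs with rfl | rfl | rfl <;> assumption
    | one => exact Commute.one_right _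
    | mul a b _ _ ha hb => exact ha.mul_right hb
    | inv a _ ha => exact ha.inv_right
  set N : Subgroup K := Subgroup.zpowers cK with hN
  have : N.Normal := ⟨fun n hn g => by
    obtain ⟨k, rfl⟩ := Subgroup.mem_zpowers_iff.mp hn
    have hcg : Commute cK g := Subtype.ext (hcen g.1 g.2)
    rw [← (hcg.zpow_left k).eq, mul_inv_cancel_right]
    exact Subgroup.zpow_mem _ (Subgroup.mem_zpowers cK) k⟩
  let π : K →* K ⧸ N := QuotientGroup.mk' N
  let X : K := ⟨x, hxK⟩
  let Y : K := ⟨y, hyK⟩
  let Z : K := ⟨z, hzK⟩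
  have hrel : H77.HN.XYZRel X Y Z := by
    constructor <;> refine Subtype.ext ?_ <;> simp only [Subgroup.coe_mul, Subgroup.coe_pow,
      Subgroup.coe_inv, Subgroup.coe_one, X, Y, Z]
    · exact h.y_six
    · exact h.x2_y
    · exact h.comm_three
    · exact h.mixed_three
    · exact h.xy_eight
    · exact h.xyxy3_four
    · exact h.z_two
    · exact h.zx_two
    · exact h.z_comm
    · exact h.z_conj
  have hsq : π X * π X = 1 := by
    rw [← map_mul]
    exact (QuotientGroup.eq_one_iff _).mpr (Subgroup.mem_zpowers cK)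
  obtain ⟨hfin, hcard⟩ := bound_sq (map_rel π hrel) hsq
  have htop : Subgroup.closure ({π X, π Y, π Z} : Set (K ⧸ N)) = ⊤ := by
    have h1 : Subgroup.closure ({X, Y, Z} : Set K) = ⊤ := by
      refine (Subgroup.map_injective K.subtype_injective) ?_
      rw [MonoidHom.map_closure, ← MonoidHom.range_eq_map, Subgroup.range_subtype]
      simp only [Set.image_insert_eq, Set.image_singleton]
      rfl
    rw [show ({π X, π Y, π Z} : Set (K ⧸ N)) = π '' {X, Y, Z} by
        simp only [Set.image_insert_eq, Set.image_singleton],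
      ← MonoidHom.map_closure, h1]
    exact Subgroup.map_top_of_surjective _ (QuotientGroup.mk'_surjective N)
  rw [htop] at hfin hcard
  rw [Subgroup.card_top] at hcard
  have : Finite (K ⧸ N) := Finite.of_equiv _ Subgroup.topEquiv.toEquiv
  have hc2 : cK ^ 2 = 1 := by rw [pow_two]; exact Subtype.ext hc
  have : Finite N :=
    (finite_zpowers.mpr (isOfFinOrder_iff_pow_eq_one.mpr ⟨2, by norm_num, hc2⟩)).to_subtype
  have hcN : Nat.card N ≤ 2 := by
    rw [hN, Nat.card_zpowers]
    exact orderOf_le_of_pow_eq_one (by norm_num) hc2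
  refine ⟨Finite.of_equiv ((K ⧸ N) × N) Subgroup.groupEquivQuotientProdSubgroup.symm, ?_⟩
  rw [Subgroup.card_eq_card_quotient_mul_card_subgroup N]
  exact (Nat.mul_le_mul hcard hcN).trans (by norm_num)

end HN
end H39
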