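import Cfsg.Agent.H39.HN.Base

/-!
Free reduction when the first and the third generator are involutions, and relators obtained from
a relation by conjugation and reduction.
-/

set_option autoImplicit false

namespace H39
namespace HN

open H93.CosetI

/-- identify the letters of an involution -/
def fold (g : ℕ) : ℕ := if g = 1 then 0 else if g = 5 then 4 else g

/-- the letter cancelling a folded letter -/
def ivf (g : ℕ) : ℕ := if g = 0 then 0 else if g = 4 then 4 else iv g

/-- push a letter on a reduced word -/
def push (g : ℕ) : List ℕ → List ℕ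
  | [] => [fold g]
  | h :: r => if h = ivf (fold g) then r else fold g :: h :: r

/-- the reduced word -/
def reduce : List ℕ → List ℕ
  | [] => []
  | g :: u => push g (reduce u)

/-- `p · r · p⁻¹` reduces to the same word as `s` -/
def conjOK (e : List ℕ × List ℕ × List ℕ) : Bool :=
  (e.1 ++ e.2.1 ++ e.2.2).all (fun g => decide (g < 6)) &&
    reduce e.1 == reduce (e.2.1 ++ e.2.2 ++ (e.2.1.map iv).reverse)

variable {Γ : Type*} [Group Γ] {a b c : Γ}

theorem gen_fold (ha : a * a = 1) (hc : c * c = 1) (g : ℕ) :
    gen a b c (fold g) = gen a b c g := by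
  unfold fold
  split_ifs with h1 h5
  · subst h1; exact eq_inv_of_mul_eq_one_left ha
  · subst h5; exact eq_inv_of_mul_eq_one_left hc
  · rfl

theorem gen_ivf (ha : a * a = 1) (hc : c * c = 1) {g : ℕ} (hg : g < 6) :
    gen a b c (ivf g) * gen a b c g = 1 := by
  unfold ivf
  split_ifs with h0 h4
  · subst h0; exact ha
  · subst h4; exact hc
  · exact gen_inv g hg

theorem fold_lt {g : ℕ} (hg : g < 6) : fold g < 6 := by
  unfold fold; split_ifs <;> omega

theorem ev_reduce (ha : a * a = 1) (hc : c * c = 1) :
    ∀ u : List ℕ, (∀ g ∈ u, g < 6) → ev (gen a b c) (reduce u) = ev (gen a b c) u := by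
  intro u
  induction u with
  | nil => intro _; rfl
  | cons g u ih =>
    intro hu
    have hg : g < 6 := hu g (by simp)
    have hi := ih fun x hx => hu x (by simp [hx])
    show ev (gen a b c) (push g (reduce u)) = ev (gen a b c) u * gen a b c g
    rw [← hi]
    cases hr : reduce u with
    | nil => simp [push, ev, gen_fold ha hc]
    | cons h r =>
      simp only [push]
      split_ifs with hh
      · subst hh
        rw [ev, ← gen_fold ha hc g, mul_assoc, gen_ivf ha hc (fold_lt hg), mul_one]
      · simp [ev, gen_fold ha hc]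

theorem ev_eq_of_reduce (ha : a * a = 1) (hc : c * c = 1) {u v : List ℕ}
    (hu : u.all (fun g => decide (g < 6)) = true) (hv : v.all (fun g => decide (g < 6)) = true)
    (h : reduce u = reduce v) : ev (gen a b c) u = ev (gen a b c) v := by
  simp only [List.all_eq_true, decide_eq_true_eq] at hu hv
  rw [← ev_reduce ha hc u hu, h, ev_reduce ha hc v hv]

/-- relators that are reduced conjugates of relations are relations -/
theorem rels_of_conj (ha : a * a = 1) (hc : c * c = 1) {es : List (List ℕ × List ℕ × List ℕ)}
    (hok : es.all conjOK = true) (hs : ∀ e ∈ es, ev (gen a b c) e.1 = 1) :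
    ∀ r ∈ es.map (fun e => e.2.2), ev (gen a b c) r = 1 := by
  simp only [List.mem_map]
  rintro r ⟨⟨s, p, r'⟩, he, rfl⟩
  have h := List.all_eq_true.mp hok _ he
  simp only [conjOK, Bool.and_eq_true, beq_iff_eq, List.all_eq_true, decide_eq_true_eq,
    List.mem_append] at h
  obtain ⟨hl, hr⟩ := h
  have hp : ∀ g ∈ p, g < 6 := fun g hg => hl g (Or.inl (Or.inr hg))
  have hpi : ∀ g ∈ (p.map iv).reverse, g < 6 := by
    intro g hg
    simp only [List.mem_reverse, List.mem_map] at hg
    obtain ⟨k, hk, rfl⟩ := hg
    exact iv_lt_six k (hp k hk)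
  have key := ev_reduce ha hc (p ++ r' ++ (p.map iv).reverse) (b := b) (by
    intro g hg
    simp only [List.mem_append] at hg
    rcases hg with (hg | hg) | hg
    · exact hp g hg
    · exact hl g (Or.inr hg)
    · exact hpi g hg)
  rw [← hr, ev_reduce ha hc s (fun g hg => hl g (Or.inl (Or.inl hg))), hs _ he, ev_append, ev_append,
    ev_reverse (gen a b c) (m := 6) gen_inv p hp] at key
  calc ev (gen a b c) r' = ev (gen a b c) p * ((ev (gen a b c) p)⁻¹ *
        (ev (gen a b c) r' * ev (gen a b c) p)) * (ev (gen a b c) p)⁻¹ := by group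
    _ = 1 := by rw [← key]; group

end HN
end H39
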