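import Cfsg.Agent.H39.HN.Red
import Cfsg.Agent.H39.HN.Algebra

/-!
The relations of the presentation as words in the letters.
-/

set_option autoImplicit false
set_option maxRecDepth 4000

namespace H39
namespace HN

open H93.CosetI

/-- the six relators without z -/
def srcR0 : List (List ℕ) :=
  [[2, 2, 2, 2, 2, 2],
   [3, 0, 0, 2, 0, 0],
   [2, 0, 3, 1, 2, 0, 3, 1, 2, 0, 3, 1],
   [2, 2, 2, 0, 2, 2, 1, 2, 2, 2, 0, 2, 2, 1, 2, 2, 2, 0, 2, 2, 1],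
   [2, 0, 2, 0, 2, 0, 2, 0, 2, 0, 2, 0, 2, 0, 2, 0],
   [2, 2, 2, 0, 2, 0, 2, 2, 2, 0, 2, 0, 2, 2, 2, 0, 2, 0, 2, 2, 2, 0, 2, 0]]

/-- x commutes with q -/
def srcR5 : List ℕ := [3, 3, 0, 2, 0, 2, 0, 3, 3, 0, 2, 2, 1, 3, 1, 3, 1, 2, 2, 1]

/-- the four relators with z -/
def srcRz : List (List ℕ) :=
  [[4, 4],
   [0, 4, 0, 4],
   [1, 1, 3, 0, 2, 2, 0, 2, 0, 2, 4, 3, 1, 3, 1, 3, 3, 1, 2, 5],
   [0, 2, 0, 2, 0, 2, 2, 2, 4, 3, 3, 3, 1, 3, 1, 3, 0, 2, 0, 2, 0, 2, 2, 2, 4, 3, 3, 3, 1, 3, 1,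
    3, 0, 2, 0, 2, 0, 2, 2, 2, 4, 3, 3, 3, 1, 3, 1, 3, 4]]

def wWord : List ℕ := [3, 0, 2, 2, 0, 2, 0, 2]
def qWord : List ℕ := [3, 3, 0, 2, 0, 2, 0, 3, 3]
def vqvWord : List ℕ :=
  [3, 3, 3, 1, 3, 1, 3, 3, 3, 0, 2, 0, 2, 0, 3, 3, 2, 0, 2, 0, 2, 2, 2]
def vxqxvWord : List ℕ :=
  [3, 3, 3, 1, 3, 1, 3, 0, 3, 3, 0, 2, 0, 2, 0, 3, 3, 0, 2, 0, 2, 0, 2, 2, 2]

variable {Γ : Type*} [Group Γ] {x y z : Γ}

theorem srcR0_eq_one (h : H77.HN.XYZRel x y z) (c : Γ) :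
    ∀ w ∈ srcR0, ev (gen x y c) w = 1 := by
  have h1 := h.y_six
  have h2 := h.x2_y
  have h3 := h.comm_three
  have h4 := h.mixed_three
  have h5 := h.xy_eight
  have h6 := h.xyxy3_four
  simp only [pow_succ, pow_zero, one_mul, mul_assoc] at h1 h2 h3 h4 h5 h6
  intro w hw
  simp only [srcR0, List.mem_cons, List.not_mem_nil, or_false] at hw
  rcases hw with rfl | rfl | rfl | rfl | rfl | rfl <;>
    simp only [ev, gen, one_mul, mul_assoc] <;> assumption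

theorem srcRz_eq_one (h : H77.HN.XYZRel x y z) : ∀ w ∈ srcRz, ev (gen x y z) w = 1 := by
  have h1 := h.z_two
  have h2 := h.zx_two
  have h3 := h.z_comm
  have h4 := h.z_conj
  simp only [pow_succ, pow_zero, one_mul, mul_inv_rev, inv_inv, mul_assoc] at h1 h2 h3 h4
  intro w hw
  simp only [srcRz, List.mem_cons, List.not_mem_nil, or_false] at hw
  rcases hw with rfl | rfl | rfl | rfl <;>
    simp only [ev, gen, one_mul, mul_assoc] <;> assumption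

theorem ev_wWord (c : Γ) : ev (gen x y c) wWord = wEl x y := by
  simp [wWord, wEl, ev, gen, pow_succ, mul_assoc]

theorem ev_qWord (c : Γ) : ev (gen x y c) qWord = qEl x y := by
  simp [qWord, qEl, ev, gen, mul_assoc]

theorem ev_vqvWord (c : Γ) :
    ev (gen x y c) vqvWord = vEl x y * qEl x y * (vEl x y)⁻¹ := by
  simp [vqvWord, vEl, qEl, ev, gen, pow_succ, mul_assoc, mul_inv_rev]

theorem ev_vxqxvWord (c : Γ) :
    ev (gen x y c) vxqxvWord = vEl x y * (x * qEl x y * x) * (vEl x y)⁻¹ := by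
  simp [vxqxvWord, vEl, qEl, ev, gen, pow_succ, mul_assoc, mul_inv_rev]

theorem srcR5_eq_one (c : Γ) (hx : x * x = 1) (hq : x * qEl x y * x = qEl x y) :
    ev (gen x y c) srcR5 = 1 := by
  have hxi : x⁻¹ = x := inv_eq_of_mul_eq_one_right hx
  have e : ev (gen x y c) srcR5 = x⁻¹ * (qEl x y)⁻¹ * (x * qEl x y) := by
    simp [srcR5, qEl, ev, gen, mul_assoc, mul_inv_rev]
  rw [e]
  calc x⁻¹ * (qEl x y)⁻¹ * (x * qEl x y) = (qEl x y * x)⁻¹ * (x * qEl x y) := by group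
    _ = ((x * qEl x y * x) * x)⁻¹ * (x * qEl x y) := by rw [hq]
    _ = (x * qEl x y * (x * x))⁻¹ * (x * qEl x y) := by group
    _ = 1 := by rw [hx, mul_one, inv_mul_cancel]

end HN
end H39
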