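import Cfsg.Agent.H39.HN.Src

/-!
Passing relations from one derivation to the next.
-/

set_option autoImplicit false

namespace H39
namespace HN

open H93.CosetI

variable {Γ : Type*} [Group Γ] {a b c : Γ}

/-- reduced conjugates of known relations are relations -/
theorem derive (ha : a * a = 1) (hc : c * c = 1) {K : List (List ℕ)}
    (hK : ∀ w ∈ K, ev (gen a b c) w = 1) (es : List (List ℕ × List ℕ × List ℕ))
    (hok : (es.all conjOK && es.all (fun e => K.contains e.1)) = true) {rels : List (List ℕ)}
    (hr : es.map (fun e => e.2.2) = rels) : ∀ w ∈ rels, ev (gen a b c) w = 1 := by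
  simp only [Bool.and_eq_true] at hok
  subst hr
  refine rels_of_conj ha hc hok.1 fun e he => hK _ ?_
  simpa using List.all_eq_true.mp hok.2 e he

/-- targets that lie in the trivial subgroup join the known relations -/
theorem extend {K ts : List (List ℕ)} (hK : ∀ w ∈ K, ev (gen a b c) w = 1)
    (h : ∀ w ∈ ts, ev (gen a b c) w ∈ (⊥ : Subgroup Γ)) :
    ∀ w ∈ K ++ ts, ev (gen a b c) w = 1 := by
  intro w hw
  rcases List.mem_append.mp hw with hw | hw
  · exact hK w hw
  · exact Subgroup.mem_bot.mp (h w hw)

/-- substitution of words for letters -/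
theorem ev_flatMap {G : Type*} [Group G] (f : ℕ → G) (s : ℕ → List ℕ) (u : List ℕ) :
    ev f (u.flatMap s) = ev (fun g => ev f (s g)) u := by
  induction u with
  | nil => rfl
  | cons g u ih => rw [List.flatMap_cons, ev_append, ih, ev]

/-- the words standing for the letters of x and w -/
def subW : ℕ → List ℕ
  | 0 => [0]
  | 1 => [1]
  | 2 => wWord
  | 3 => (wWord.map iv).reverse
  | _ => []

theorem ev_subW (x y : Γ) (u : List ℕ) :
    ev (gen x y 1) (u.flatMap subW) = ev (gen x (wEl x y) 1) u := by
  rw [ev_flatMap]
  congr 1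
  funext g
  match g with
  | 0 => simp [subW, ev, gen]
  | 1 => simp [subW, ev, gen]
  | 2 => exact ev_wWord 1
  | 3 =>
    show ev (gen x y 1) (wWord.map iv).reverse = _
    rw [ev_reverse (gen x y 1) (m := 6) gen_inv wWord (by decide), ev_wWord]
    rfl
  | 4 => simp [subW, ev, gen]
  | 5 => simp [subW, ev, gen]
  | k + 6 => simp [subW, ev, gen]

end HN
end H39
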